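import Groth.Agent.Adic.Base.Saturated
import Groth.Agent.Adic.Base.RestrictedPoly

/-! Contents: elements outside a saturated ideal are scalar multiples of primitive ones. -/

namespace Groth.Agent.Adic.Rank1.Content

open MvPolynomial IsLocalRing Groth.Agent.Adic.Base.Saturated
open scoped MonomialOrder

variable {R : Type*} [CommRing R] [IsDomain R] [ValuationRing R] [Ring.KrullDimLE 1 R]
  {t : R} {n : ℕ} {P : Type*} [CommRing P] [Algebra R P] (D : Dense t n P)

include D in
theorem exists_content (ht : t ≠ 0) (htm : t ∈ maximalIdeal R) (N : Ideal P)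
    (hsat : ∀ x, algebraMap R P t * x ∈ N → x ∈ N) {x : P} {j₀ : ℕ}
    (hx : ∀ n₀ ∈ N, ¬ algebraMap R P t ^ j₀ ∣ x - n₀) :
    ∃ (c : R) (y : P), x - algebraMap R P c * y ∈ N ∧ y ∉ N ⊔ (maximalIdeal R).map (algebraMap R P) := by
  classical
  have htu : ¬ IsUnit t := (mem_maximalIdeal _).mp htm
  let ι := D.ι
  let res : MvPolynomial (Fin n) R →+* MvPolynomial (Fin n) (ResidueField R) := MvPolynomial.map (residue R)
  let o : MonomialOrder (Fin n) := MonomialOrder.lex
  let J := (maximalIdeal R).map (algebraMap R P)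
  let E : Set (Fin n →₀ ℕ) := {e | ∃ x ∈ N, ∃ p, x - ι p ∈ J ∧ res p ≠ 0 ∧ o.degree (res p) = e}
  obtain ⟨F, hFE, hF⟩ : ∃ F : Finset (Fin n →₀ ℕ), ↑F ⊆ E ∧ ∀ e ∈ E, ∃ f ∈ F, f ≤ e := by
    obtain ⟨s, hs, hspan⟩ := (Submodule.fg_span_iff_fg_span_finset_subset _).mp
      (IsNoetherian.noetherian (Ideal.span ((fun e => monomial e (1 : ResidueField R)) '' E)))
    obtain ⟨F, hFE, rfl⟩ := Finset.subset_set_image_iff.mp hs
    refine ⟨F, hFE, fun e he => ?_⟩
    have h1 : monomial e (1 : ResidueField R) ∈ Ideal.span ((fun e => monomial e 1) '' (F : Set _)) := by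
      rw [← Finset.coe_image]
      exact hspan.le (Ideal.subset_span ⟨e, he, rfl⟩)
    obtain ⟨f, hf, hfe⟩ := mem_ideal_span_monomial_image.mp h1 e (by simp)
    exact ⟨f, hf, hfe⟩
  have hsel : ∀ f : F, ∃ x ∈ N, ∃ p, x - ι p ∈ J ∧ res p ≠ 0 ∧ o.degree (res p) = f.1 := fun f => hFE f.2
  choose g hgN p hgp hp0 hpdeg using hsel
  choose sp hsp hspd using fun f : F => exists_small_of_mem_map ht htm (hgp f)
  let high : F → MvPolynomial (Fin n) R := fun f =>
    ∑ e ∈ (p f).support.filter (fun e => ¬ e ≼[o] f.1), monomial e ((p f).coeff e)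
  let p' : F → MvPolynomial (Fin n) R := fun f => p f - high f
  have hhigh : ∀ (f : F) e, (high f).coeff e = if e ≼[o] f.1 then 0 else (p f).coeff e := by
    intro f e
    simp only [high, coeff_sum, coeff_monomial, Finset.sum_ite_eq', Finset.mem_filter, mem_support_iff]
    by_cases h : e ≼[o] f.1
    · rw [if_neg fun h' => h'.2 h, if_pos h]
    · rw [if_neg h]
      by_cases h0 : (p f).coeff e = 0
      · simp [h0]
      · rw [if_pos ⟨h0, h⟩]
  have hhm : ∀ (f : F), ∀ e ∈ (high f).support, (high f).coeff e ∈ maximalIdeal R := by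
    intro f e he
    rw [mem_support_iff, hhigh] at he
    split_ifs at he with h
    · exact absurd rfl he
    · rw [hhigh, if_neg h, ← residue_eq_zero_iff]
      by_contra hne
      refine h (hpdeg f ▸ o.le_degree (mem_support_iff.mpr ?_))
      rw [MvPolynomial.coeff_map]; exact hne
  obtain ⟨s, hsm, hs0, hst, hsall⟩ := exists_small ht htm
    ((Finset.univ.image sp) ∪ Finset.univ.biUnion fun f => (high f).support.image (high f).coeff) (by
      intro a ha
      rcases Finset.mem_union.mp ha with h | h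
      · obtain ⟨f, -, rfl⟩ := Finset.mem_image.mp h; exact hsp f
      · obtain ⟨f, -, h⟩ := Finset.mem_biUnion.mp h
        obtain ⟨e, he, rfl⟩ := Finset.mem_image.mp h
        exact hhm f e he)
  have hgs : ∀ f, algebraMap R P s ∣ g f - ι (p' f) := by
    intro f
    rw [show p' f = p f - high f from rfl, map_sub, sub_sub_eq_add_sub, add_sub_right_comm]
    refine dvd_add ((map_dvd _ (hsall _ (Finset.mem_union_left _ (Finset.mem_image_of_mem sp (Finset.mem_univ f))))).trans (hspd f)) ?_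
    rw [(high f).as_sum, map_sum]
    refine Finset.dvd_sum fun e he => ?_
    rw [← mul_one ((high f).coeff e), ← smul_eq_mul, ← smul_monomial, map_smul, Algebra.smul_def]
    exact (map_dvd _ (hsall _ (Finset.mem_union_right _ (Finset.mem_biUnion.mpr
      ⟨f, Finset.mem_univ f, Finset.mem_image_of_mem _ he⟩)))).mul_right _
  have hp'le : ∀ f, ∀ e ∈ (p' f).support, e ≼[o] f.1 := by
    intro f e he
    by_contra h
    rw [mem_support_iff] at he
    exact he (by simp [p', hhigh, h])
  have hp'c : ∀ f : F, IsUnit ((p' f).coeff f.1) := by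
    intro f
    have h1 : (p' f).coeff f.1 = (p f).coeff f.1 := by simp [p', hhigh]
    rw [h1]
    refine of_not_not fun hnu => ?_
    have h2 := (o.coeff_degree_ne_zero_iff (f := res (p f))).mpr (hp0 f)
    rw [hpdeg f, MvPolynomial.coeff_map] at h2
    exact h2 ((residue_eq_zero_iff _).mpr ((mem_maximalIdeal _).mpr hnu))
  have hp'deg : ∀ f, o.degree (p' f) = f.1 := fun f =>
    o.toSyn.injective (le_antisymm (o.degree_le_iff.mpr (hp'le f))
      (o.le_degree (mem_support_iff.mpr (hp'c f).ne_zero)))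
  have hp'unit : ∀ f, IsUnit (o.leadingCoeff (p' f)) := fun f => by
    rw [MonomialOrder.leadingCoeff, hp'deg]; exact hp'c f
  have step : ∀ z : P, ∃ n₀ ∈ N, ∃ r : MvPolynomial (Fin n) R, (∀ e ∈ r.support, ∀ f : F, ¬ (f : Fin n →₀ ℕ) ≤ e) ∧
      algebraMap R P s ∣ z - n₀ - ι r := by
    intro z
    obtain ⟨j, hj⟩ := exists_dvd_pow htu hs0
    obtain ⟨P₀, hP₀⟩ := D.dense z j
    obtain ⟨q, r, hqr, -, hr⟩ := o.div hp'unit P₀
    rw [Finsupp.linearCombination_apply, Finsupp.sum_fintype q (fun i a => a • p' i) (fun i => zero_smul _ (p' i))] at hqr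
    refine ⟨∑ f, ι (q f) * g f, sum_mem fun f _ => N.mul_mem_left _ (hgN f), r,
      fun e he f hle => hr e he f ((hp'deg f).symm ▸ hle), ?_⟩
    have heq : z - ∑ f, ι (q f) * g f - ι r = (z - ι P₀) - ∑ f, ι (q f) * (g f - ι (p' f)) := by
      rw [hqr]
      simp only [smul_eq_mul, map_add, map_sum, map_mul, mul_sub, Finset.sum_sub_distrib]
      ring
    rw [heq]
    exact dvd_sub (dvd_trans (by rw [← map_pow]; exact map_dvd _ hj) hP₀)
      (Finset.dvd_sum fun f _ => (hgs f).mul_left _)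
  have hiter : ∀ k, ∃ n₀ ∈ N, ∃ r : MvPolynomial (Fin n) R, (∀ e ∈ r.support, ∀ f : F, ¬ (f : Fin n →₀ ℕ) ≤ e) ∧
      algebraMap R P s ^ k ∣ x - n₀ - ι r := by
    intro k
    induction k with
    | zero => exact ⟨0, zero_mem _, 0, by simp, by simp⟩
    | succ k ih =>
      obtain ⟨n₀, hn₀, r, hr, z, hz⟩ := ih
      obtain ⟨n₁, hn₁, r₁, hr₁, w, hw⟩ := step z
      refine ⟨n₀ + algebraMap R P (s ^ k) * n₁, add_mem hn₀ (N.mul_mem_left _ hn₁), r + C (s ^ k) * r₁,
        fun e he f => ?_, w, ?_⟩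
      · rcases Finset.mem_union.mp (MvPolynomial.support_add he) with h | h
        · exact hr e h f
        · refine hr₁ e (mem_support_iff.mpr fun h0 => mem_support_iff.mp h ?_) f
          rw [coeff_C_mul, h0, mul_zero]
      · rw [map_add ι, map_mul ι, ← MvPolynomial.algebraMap_eq, ι.commutes, map_pow]
        linear_combination hz + algebraMap R P s ^ k * hw
  obtain ⟨L, hL⟩ := exists_dvd_pow ((mem_maximalIdeal _).mp hsm) ht
  obtain ⟨n₀, hn₀, r, hr, hdvd⟩ := hiter (L * j₀)
  have hdvd' : algebraMap R P t ^ j₀ ∣ x - n₀ - ι r := by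
    refine dvd_trans ?_ hdvd
    rw [pow_mul, ← map_pow, ← map_pow, ← map_pow]
    exact map_dvd _ (pow_dvd_pow_of_dvd hL j₀)
  have hexnd : ∃ e ∈ r.support, ¬ t ^ j₀ ∣ r.coeff e := by
    by_contra! hall
    refine hx n₀ hn₀ ?_
    have h1 : algebraMap R P t ^ j₀ ∣ ι r := by
      rw [r.as_sum, map_sum]
      refine Finset.dvd_sum fun e he => ?_
      rw [← mul_one (r.coeff e), ← smul_eq_mul, ← smul_monomial, map_smul, Algebra.smul_def, ← map_pow]
      exact (map_dvd _ (hall e he)).mul_right _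
    simpa using dvd_add hdvd' h1
  obtain ⟨e₀, he₀, hns⟩ := hexnd
  obtain ⟨c, hc, hcall⟩ := exists_dvd_all (r.support.image r.coeff) ⟨_, Finset.mem_image_of_mem _ he₀⟩
  obtain ⟨e₁, he₁, rfl⟩ := Finset.mem_image.mp hc
  have hct : ¬ t ^ j₀ ∣ r.coeff e₁ := fun h => hns (h.trans (hcall _ (Finset.mem_image_of_mem _ he₀)))
  obtain ⟨u, hu⟩ := (ValuationRing.dvd_total (t ^ j₀) (r.coeff e₁)).resolve_left hct
  have hum : u ∈ maximalIdeal R := (mem_maximalIdeal _).mpr fun huu => hct (by
    rw [hu]; exact (IsUnit.mul_right_dvd huu).mpr dvd_rfl)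
  have hc0 : r.coeff e₁ ≠ 0 := mem_support_iff.mp he₁
  obtain ⟨r', hr'⟩ : C (r.coeff e₁) ∣ r := by
    rw [C_dvd_iff_dvd_coeff]
    intro e
    by_cases he : e ∈ r.support
    · exact hcall _ (Finset.mem_image_of_mem _ he)
    · rw [notMem_support_iff.mp he]; exact dvd_zero _
  obtain ⟨b, hb⟩ := hdvd'
  refine ⟨r.coeff e₁, ι r' + algebraMap R P u * b, ?_, fun hy => ?_⟩
  · have h1 : ι r = algebraMap R P (r.coeff e₁) * ι r' := by
      conv_lhs => rw [hr']
      rw [map_mul, ← MvPolynomial.algebraMap_eq, AlgHom.commutes]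
    have h2 : algebraMap R P t ^ j₀ = algebraMap R P (r.coeff e₁) * algebraMap R P u := by
      rw [← map_mul, ← hu, map_pow]
    have : x - algebraMap R P (r.coeff e₁) * (ι r' + algebraMap R P u * b) = n₀ := by
      linear_combination hb + h1 + b * h2
    rw [this]; exact hn₀
  · have hcoef1 : r'.coeff e₁ = 1 := by
      have := congrArg (fun p => p.coeff e₁) hr'
      simp only [coeff_C_mul] at this
      exact (mul_right_eq_self₀.mp this.symm).resolve_right hc0
    obtain ⟨n₂, hn₂, j, hj, hnj⟩ := Submodule.mem_sup.mp hy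
    have hne0 : res r' ≠ 0 := fun h => by
      have h2 : (MvPolynomial.map (residue R) r').coeff e₁ = 0 := by rw [show MvPolynomial.map (residue R) r' = 0 from h, coeff_zero]
      rw [MvPolynomial.coeff_map, hcoef1, map_one] at h2
      exact one_ne_zero h2
    have hE : o.degree (res r') ∈ E := by
      refine ⟨n₂, hn₂, r', ?_, hne0, rfl⟩
      rw [show n₂ - ι r' = algebraMap R P u * b - j by linear_combination hnj]
      exact sub_mem (Ideal.mul_mem_right _ _ (Ideal.mem_map_of_mem _ hum)) hj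
    obtain ⟨f, hf, hfle⟩ := hF _ hE
    refine hr _ ?_ ⟨f, hf⟩ hfle
    have h := o.degree_mem_support hne0
    rw [mem_support_iff] at h ⊢
    intro h0
    refine h ?_
    have h3 := congrArg (fun p => p.coeff (o.degree (res r'))) hr'
    simp only [coeff_C_mul, h0] at h3
    show (MvPolynomial.map (residue R) r').coeff _ = 0
    rw [MvPolynomial.coeff_map, (mul_eq_zero.mp h3.symm).resolve_left hc0, map_zero]

end Groth.Agent.Adic.Rank1.Content
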