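import Groth.Agent.Adic.Rank1.Basic
import Groth.Agent.Adic.Rank1.Content
import Groth.Agent.Adic.Base.Finite
import Groth.Agent.Hensel.Idem
import Mathlib.RingTheory.Jacobson.Artinian
import Mathlib.RingTheory.Ideal.AssociatedPrime.Finiteness
import Mathlib.RingTheory.Localization.BaseChange
import Mathlib.RingTheory.Algebraic.Integral

/-! Rig-points: one-dimensional admissible domains are finite. -/

namespace Groth.Agent.Adic.Rank1.Point

open IsLocalRing

universe u

variable {R : Type u} [CommRing R] [IsDomain R] [ValuationRing R] [Ring.KrullDimLE 1 R]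
  {t : R} (ht : t ≠ 0) [IsAdicComplete (Ideal.span {t}) R]
  {B : Type u} [CommRing B] [Algebra R B]

theorem noPowTorsion_iff : AdicRing.NoPowTorsion (Ideal.span {t}) B ↔ ∀ x : B, t • x = 0 → x = 0 := by
  refine ⟨fun h x hx => h x 1 fun a ha => ?_, fun h x k hx => ?_⟩
  · rw [pow_one] at ha
    obtain ⟨c, rfl⟩ := Ideal.mem_span_singleton'.mp ha
    rw [mul_smul, hx, smul_zero]
  · have h1 : t ^ k • x = 0 := hx _ (Ideal.pow_mem_pow (Ideal.mem_span_singleton_self t) k)
    clear hx
    induction k with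
    | zero => simpa using h1
    | succ k ih => exact ih (h _ (by rwa [← mul_smul, ← pow_succ']))

include ht in
theorem faithfulSMul_of_torsionFree [Nontrivial B] (htf : ∀ x : B, t • x = 0 → x = 0) : FaithfulSMul R B := by
  rw [faithfulSMul_iff_algebraMap_injective, injective_iff_map_eq_zero]
  intro r hr
  by_contra hr0
  obtain ⟨j, u, hu⟩ := Base.Saturated.exists_dvd_pow (Basic.not_isUnit (t := t)) hr0
  have : ∀ k, t ^ k • (1 : B) = 0 → False := fun k => by
    induction k with
    | zero => simp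
    | succ k ih => exact fun h => ih (htf _ (by rwa [← mul_smul, ← pow_succ']))
  refine this j ?_
  rw [hu, Algebra.smul_def, map_mul, hr, zero_mul, zero_mul]

include ht in
theorem le_jacobson (hB : AdicRing.TopFiniteType R (Ideal.span {t}) B) :
    (maximalIdeal R).map (algebraMap R B) ≤ Ideal.jacobson ⊥ := by
  refine Ideal.map_le_iff_le_comap.mpr fun a ha => Hensel.Idem.mem_jacobson_of_forall fun M hM => ?_
  have htM : algebraMap R B t ∈ M := Hensel.Idem.mem_of_mem_jacobson
    (Base.Classes.le_jacobson (Basic.isBase ht) hB (Ideal.mem_map_of_mem _ (Ideal.mem_span_singleton_self t))) M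
  rcases eq_or_ne a 0 with rfl | ha0
  · simp
  obtain ⟨j, hj⟩ := Base.Saturated.exists_dvd_pow ((mem_maximalIdeal a).mp ha) ht
  refine hM.isPrime.mem_of_pow_mem j ?_
  rw [← map_pow]
  obtain ⟨u, hu⟩ := hj
  rw [hu, map_mul]
  exact M.mul_mem_right _ htM

include ht in
theorem exists_content [Nontrivial B] (hB : AdicRing.TopFiniteType R (Ideal.span {t}) B)
    (htf : ∀ x : B, t • x = 0 → x = 0) {y : B} (hy : y ≠ 0) :
    ∃ (c : R) (y' : B), y = c • y' ∧ y' ∉ (maximalIdeal R).map (algebraMap R B) := by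
  obtain ⟨n, φ, hφ⟩ := hB
  obtain ⟨x, rfl⟩ := hφ y
  let N := RingHom.ker φ.toRingHom
  have hsat : ∀ z, algebraMap R _ t * z ∈ N → z ∈ N := fun z hz => by
    rw [RingHom.mem_ker] at hz ⊢
    refine htf _ ?_
    rw [Algebra.smul_def]
    simpa using hz
  have hj : ∃ j, ∀ n₀ ∈ N, ¬ algebraMap R _ t ^ j ∣ x - n₀ := by
    by_contra! hall
    refine hy ?_
    have hH := Base.Classes.isHausdorff (Basic.isBase ht) (A := B) ⟨n, φ, hφ⟩ B
    refine hH.haus _ fun j => SModEq.zero.mpr ?_
    obtain ⟨n₀, hn₀, w, hw⟩ := hall j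
    rw [← Ideal.map_pow, smul_eq_mul, Ideal.mul_top, Ideal.span_singleton_pow, Ideal.map_span,
      Set.image_singleton, Ideal.mem_span_singleton]
    refine ⟨φ w, ?_⟩
    have h := congrArg φ hw
    rw [map_sub, show φ n₀ = 0 from hn₀, sub_zero, map_mul, ← map_pow, φ.commutes] at h
    exact h
  obtain ⟨j, hj⟩ := hj
  obtain ⟨c, z, hz, hznot⟩ := Content.exists_content (Base.RestrictedPoly.dense t n) ht
    (Base.Classes.mem_maximalIdeal (t := t)) N hsat hj
  refine ⟨c, φ z, ?_, fun hmem => hznot ?_⟩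
  · have h0 : φ (x - algebraMap R _ c * z) = 0 := hz
    rw [map_sub, map_mul, φ.commutes, sub_eq_zero] at h0
    rw [Algebra.smul_def, h0]
  · have hmem' : φ z ∈ ((maximalIdeal R).map (algebraMap R (AdicRing.RPow R (Ideal.span {t}) n))).map φ.toRingHom := by
      rw [Ideal.map_map]
      exact φ.comp_algebraMap.symm ▸ hmem
    obtain ⟨w, hw, hwe⟩ := (Ideal.mem_map_iff_of_surjective _ hφ).mp hmem'
    exact Submodule.mem_sup.mpr ⟨z - w, RingHom.mem_ker.mpr (by rw [map_sub]; exact sub_eq_zero.mpr hwe.symm),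
      w, hw, sub_add_cancel _ _⟩

include ht in
theorem exists_poly (hB : AdicRing.TopFiniteType R (Ideal.span {t}) B) :
    ∃ (n : ℕ) (ι : MvPolynomial (Fin n) R →ₐ[R] B),
      ∀ (x : B) (j : ℕ), ∃ p, algebraMap R B t ^ j ∣ x - ι p := by
  obtain ⟨n, φ, hφ⟩ := hB
  let D := Base.RestrictedPoly.dense t n
  refine ⟨n, φ.comp D.ι, fun x j => ?_⟩
  obtain ⟨x, rfl⟩ := hφ x
  obtain ⟨p, w, hw⟩ := D.dense x j
  refine ⟨p, φ w, ?_⟩
  have h := congrArg φ hw
  rw [map_sub, map_mul, ← map_pow, φ.commutes] at h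
  rw [← map_pow]
  exact h

include ht in
/-- A torsion-free topologically finite type domain with field generic fibre is finite. -/
theorem finite_of_dvd_pow [IsDomain B] (hB : AdicRing.TopFiniteType R (Ideal.span {t}) B)
    (htf : ∀ x : B, t • x = 0 → x = 0) (hdiv : ∀ x : B, x ≠ 0 → ∃ k, x ∣ algebraMap R B t ^ k) :
    Module.Finite R B := by
  classical
  have := faithfulSMul_of_torsionFree ht htf
  set J := (maximalIdeal R).map (algebraMap R B)
  obtain ⟨n, ι, hι⟩ := exists_poly ht hB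
  have htm : t ∈ maximalIdeal R := Base.Classes.mem_maximalIdeal (t := t)
  let _ : Algebra (ResidueField R) (B ⧸ J) :=
    (Ideal.quotientMap J (algebraMap R B) Ideal.le_comap_map).toAlgebra
  have : IsScalarTower R (ResidueField R) (B ⧸ J) := IsScalarTower.of_algebraMap_eq' rfl
  have hsurj : Function.Surjective ((Ideal.Quotient.mkₐ R J).comp ι) := fun y => by
    obtain ⟨y, rfl⟩ := Ideal.Quotient.mk_surjective y
    obtain ⟨p, w, hw⟩ := hι y 1
    refine ⟨p, (Ideal.Quotient.eq.mpr ?_ : Ideal.Quotient.mk J (ι p) = _)⟩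
    rw [← neg_sub, hw, pow_one]
    exact neg_mem (J.mul_mem_right _ (Ideal.mem_map_of_mem _ htm))
  have : Algebra.FiniteType R (B ⧸ J) := Algebra.FiniteType.of_surjective _ hsurj
  have : Algebra.FiniteType (ResidueField R) (B ⧸ J) :=
    Algebra.FiniteType.of_restrictScalars_finiteType R (ResidueField R) _
  have : IsNoetherianRing (B ⧸ J) := Algebra.FiniteType.isNoetherianRing (ResidueField R) _
  have hzd : ∀ M : Ideal (B ⧸ J), M.IsMaximal → (M : Set (B ⧸ J)) ⊆ ⋃ p ∈ associatedPrimes (B ⧸ J) (B ⧸ J), ↑p := by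
    intro M hM ξ hξ
    rw [biUnion_associatedPrimes_eq_compl_nonZeroDivisors]
    intro hnzd
    obtain ⟨x, rfl⟩ := Ideal.Quotient.mk_surjective ξ
    rcases eq_or_ne x 0 with rfl | hx0
    · have := Ideal.Quotient.nontrivial_iff.mpr hM.ne_top
      have : Nontrivial (B ⧸ J) := nontrivial_of_ne 1 0 fun h => hM.ne_top ((Ideal.eq_top_iff_one M).mpr (h ▸ M.zero_mem))
      exact zero_ne_one ((hnzd.1 1 (by simp)).symm)
    obtain ⟨k, y, hy⟩ := hdiv x hx0
    have hy0 : y ≠ 0 := fun h => by
      rw [h, mul_zero] at hy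
      exact pow_ne_zero k ((map_ne_zero_iff _ (FaithfulSMul.algebraMap_injective R B)).mpr ht) hy
    obtain ⟨c, y', hyc, hy'⟩ := exists_content ht hB htf hy0
    rw [hyc, Algebra.smul_def] at hy
    have hc0 : c ≠ 0 := fun h => hy0 (by rw [hyc, h, zero_smul])
    have hxy : ∃ u : R, x * y' = algebraMap R B u := by
      rcases ValuationRing.dvd_total c (t ^ k) with ⟨u, hu⟩ | ⟨u, hu⟩
      · refine ⟨u, mul_left_cancel₀ ((map_ne_zero_iff _ (FaithfulSMul.algebraMap_injective R B)).mpr hc0) ?_⟩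
        rw [← map_mul, ← hu, map_pow, hy]; ring
      · have h1 : algebraMap R B t ^ k * 1 = algebraMap R B t ^ k * (algebraMap R B u * (x * y')) := by
          rw [mul_one, ← mul_assoc, ← map_pow, ← map_mul, ← hu, map_pow, hy]; ring
        have h2 := mul_left_cancel₀ (pow_ne_zero k ((map_ne_zero_iff _ (FaithfulSMul.algebraMap_injective R B)).mpr ht)) h1
        have hux : IsUnit x := IsUnit.of_mul_eq_one (algebraMap R B u * y') (by linear_combination -h2)
        exact absurd ((Ideal.eq_top_of_isUnit_mem M hξ) (hux.map _)) hM.ne_top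
    obtain ⟨u, hu⟩ := hxy
    by_cases huu : IsUnit u
    · have : IsUnit x := isUnit_of_mul_isUnit_left (hu ▸ huu.map (algebraMap R B))
      exact hM.ne_top (Ideal.eq_top_of_isUnit_mem M hξ (this.map _))
    · refine hy' (Ideal.Quotient.eq_zero_iff_mem.mp (hnzd.1 _ ?_))
      rw [← map_mul, hu]
      exact Ideal.Quotient.eq_zero_iff_mem.mpr (Ideal.mem_map_of_mem _ huu)
  have hfinset := associatedPrimes.finite (B ⧸ J) (B ⧸ J)
  have hmaxfin : {M : Ideal (B ⧸ J) | M.IsMaximal}.Finite := by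
    refine hfinset.subset fun M hM => ?_
    obtain ⟨p, hp, hle⟩ := (Ideal.subset_union_prime_finite hfinset (f := id) 0 0 fun p hp _ _ => hp.1).mp (hzd M hM)
    exact (Ideal.IsMaximal.eq_of_le hM hp.1.ne_top hle).symm ▸ hp
  have : Ring.KrullDimLE 0 (B ⧸ J) := .mk₀ fun P hP => by
    have : IsJacobsonRing (B ⧸ J) := isJacobsonRing_of_finiteType (A := ResidueField R)
    have hjac : P.jacobson = P := this.out hP.isRadical
    obtain ⟨S, hS, hSP⟩ : ∃ S : Finset (Ideal (B ⧸ J)), (∀ M ∈ S, M.IsMaximal) ∧ S.inf id ≤ P := by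
      refine ⟨(show {M : Ideal (B ⧸ J) | P ≤ M ∧ M.IsMaximal}.Finite from hmaxfin.subset fun M hM => hM.2).toFinset,
        fun M hM => ((Set.Finite.mem_toFinset _).mp hM).2, ?_⟩
      conv_rhs => rw [← hjac]
      exact le_sInf fun M hM => Finset.inf_le (f := id) ((Set.Finite.mem_toFinset _).mpr hM)
    obtain ⟨M, hM, hle⟩ := (Ideal.IsPrime.inf_le' hP).mp hSP
    exact (hS M hM).eq_of_le hP.ne_top hle ▸ hS M hM
  have : Module.Finite (ResidueField R) (B ⧸ J) := Module.finite_iff_krullDimLE_zero _ _ |>.mpr this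
  have : Module.Finite R (B ⧸ J) := Module.Finite.trans (ResidueField R) _
  obtain ⟨T, hT⟩ := (Module.Finite.fg_top : (⊤ : Submodule R (B ⧸ J)).FG)
  let T' : Finset B := insert 1 (T.image (Function.surjInv Ideal.Quotient.mk_surjective))
  let M₀ : Submodule R B := Submodule.span R (T' : Set B)
  have hmod : ∀ y : B, ∃ a ∈ M₀, y - a ∈ J := fun y => by
    have : Ideal.Quotient.mkₐ R J y ∈ M₀.map (Ideal.Quotient.mkₐ R J).toLinearMap := by
      have hTle : Submodule.span R (T : Set (B ⧸ J)) ≤ M₀.map (Ideal.Quotient.mkₐ R J).toLinearMap :=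
        Submodule.span_le.mpr fun τ hτ => ⟨_, Submodule.subset_span (Finset.mem_coe.mpr (Finset.mem_insert_of_mem
          (Finset.mem_image_of_mem _ hτ))), Function.surjInv_eq Ideal.Quotient.mk_surjective τ⟩
      exact hTle (hT ▸ Submodule.mem_top)
    obtain ⟨a, ha, hae⟩ := this
    exact ⟨a, ha, Ideal.Quotient.eq.mp hae.symm⟩
  choose a haM haJ using hmod
  choose sf hsf hsd using fun y : B => Base.Saturated.exists_small_of_mem_map ht htm (haJ y)
  obtain ⟨s, hsm, hs0, hst, hsall⟩ := Base.Saturated.exists_small ht htm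
    ((Finset.univ ×ˢ T').image fun p : Fin n × B => sf (ι (MvPolynomial.X p.1) * p.2)) (by
      intro r hr
      obtain ⟨p, -, rfl⟩ := Finset.mem_image.mp hr
      exact hsf _)
  let N₁ : Submodule R B := M₀ ⊔ (Ideal.span {algebraMap R B s}).restrictScalars R
  have hclosed : ∀ (i : Fin n), ∀ z ∈ N₁, ι (MvPolynomial.X i) * z ∈ N₁ := by
    intro i z hz
    obtain ⟨a₁, ha₁, b₁, hb₁, rfl⟩ := Submodule.mem_sup.mp hz
    rw [mul_add]
    refine add_mem ?_ (Submodule.mem_sup_right (Ideal.mul_mem_left _ _ hb₁))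
    clear hz hb₁
    induction ha₁ using Submodule.span_induction with
    | mem τ hτ =>
      rw [← add_sub_cancel (a (ι (MvPolynomial.X i) * τ)) (ι (MvPolynomial.X i) * τ)]
      refine add_mem (Submodule.mem_sup_left (haM _)) (Submodule.mem_sup_right ?_)
      exact Ideal.mem_span_singleton.mpr ((map_dvd _ (hsall _ (Finset.mem_image.mpr
        ⟨(i, τ), Finset.mem_product.mpr ⟨Finset.mem_univ i, hτ⟩, rfl⟩))).trans (hsd _))
    | zero => rw [mul_zero]; exact zero_mem _
    | add u v _ _ hu hv => rw [mul_add]; exact add_mem hu hv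
    | smul c u _ hu => rw [mul_smul_comm]; exact Submodule.smul_mem _ c hu
  have hpoly : ∀ p, ι p ∈ N₁ := by
    intro p
    induction p using MvPolynomial.induction_on with
    | C r =>
      rw [← MvPolynomial.algebraMap_eq, AlgHom.commutes, Algebra.algebraMap_eq_smul_one]
      exact Submodule.mem_sup_left (Submodule.smul_mem _ r (Submodule.subset_span (Finset.mem_insert_self _ _)))
    | add p q hp hq => rw [map_add]; exact add_mem hp hq
    | mul_X p i hp => rw [map_mul, mul_comm]; exact hclosed i _ hp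
  obtain ⟨j₁, hj₁⟩ := Base.Saturated.exists_dvd_pow (Basic.not_isUnit (t := t)) hs0
  have hN₁ : ∀ y : B, ∃ a ∈ M₀, ∃ b, y = a + algebraMap R B s * b := fun y => by
    obtain ⟨p, hp⟩ := hι y j₁
    have : y ∈ N₁ := by
      rw [← add_sub_cancel (ι p) y]
      exact add_mem (hpoly p) (Submodule.mem_sup_right (Ideal.mem_span_singleton.mpr
        (dvd_trans (by rw [← map_pow]; exact map_dvd _ hj₁) hp)))
    obtain ⟨a₁, ha₁, b₁, hb₁, h⟩ := Submodule.mem_sup.mp this
    obtain ⟨b, rfl⟩ := Ideal.mem_span_singleton.mp hb₁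
    exact ⟨a₁, ha₁, b, h.symm⟩
  obtain ⟨L, hL⟩ := Base.Saturated.exists_dvd_pow ((mem_maximalIdeal s).mp hsm) ht
  have hiter : ∀ (k : ℕ) (y : B), ∃ a ∈ M₀, ∃ b, y = a + algebraMap R B s ^ k * b := by
    intro k
    induction k with
    | zero => exact fun y => ⟨0, zero_mem _, y, by simp⟩
    | succ k ih =>
      intro y
      obtain ⟨a₁, ha₁, b, rfl⟩ := ih y
      obtain ⟨a₂, ha₂, b₂, rfl⟩ := hN₁ b
      refine ⟨a₁ + s ^ k • a₂, add_mem ha₁ (Submodule.smul_mem _ _ ha₂), b₂, ?_⟩
      rw [Algebra.smul_def, map_pow]; ring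
  let v : (T' → R) →ₗ[R] B := Fintype.linearCombination R fun τ : T' => (τ : B)
  have hv : ∀ a ∈ M₀, ∃ c, v c = a := fun a ha => by
    obtain ⟨c, hc⟩ := (Submodule.mem_span_range_iff_exists_fun R (v := fun τ : T' => (τ : B))).mp
      (by rwa [show Set.range (fun τ : T' => (τ : B)) = (T' : Set B) from Subtype.range_coe])
    exact ⟨c, by simpa [v, Fintype.linearCombination_apply] using hc⟩
  refine Module.Finite.of_surjective v fun y => ?_
  have hone : ∀ w : B, ∃ c w', w = v c + algebraMap R B t * w' := fun w => by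
    obtain ⟨a₁, ha₁, b, rfl⟩ := hiter L w
    obtain ⟨c, rfl⟩ := hv a₁ ha₁
    obtain ⟨d, hd⟩ := hL
    exact ⟨c, algebraMap R B d * b, by rw [← mul_assoc, ← map_mul, ← hd, map_pow]⟩
  choose cc ww hcw using hone
  let it : ℕ → B := Nat.rec y fun _ w => ww w
  let S : ℕ → T' → R := fun k => ∑ i ∈ Finset.range k, t ^ i • cc (it i)
  have hS : ∀ k, y = v (S k) + algebraMap R B t ^ k * it k := by
    intro k
    induction k with
    | zero => simp [S, it]
    | succ k ih =>
      rw [show S (k + 1) = S k + t ^ k • cc (it k) from Finset.sum_range_succ _ _, map_add, map_smul,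
        Algebra.smul_def, map_pow, show it (k + 1) = ww (it k) from rfl, pow_succ, mul_assoc]
      conv_lhs => rw [ih, hcw (it k)]
      ring
  have hcoord : ∀ τ : T', ∃ c : R, ∀ k, t ^ k ∣ S k τ - c := fun τ => by
    have htc : IsAdicComplete (Ideal.span {t}) R := inferInstance
    obtain ⟨c, hc⟩ := htc.prec (f := fun k => S k τ) fun {m k} hmk => by
      rw [SModEq.sub_mem, smul_eq_mul, Ideal.mul_top, Ideal.span_singleton_pow, Ideal.mem_span_singleton]
      simp only [S, Finset.sum_apply, Pi.smul_apply, smul_eq_mul]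
      rw [← Finset.sum_range_add_sum_Ico _ hmk, ← neg_sub, add_sub_cancel_left, dvd_neg]
      exact Finset.dvd_sum fun i hi => (pow_dvd_pow t (Finset.mem_Ico.mp hi).1).mul_right _
    refine ⟨c, fun k => ?_⟩
    have := hc k
    rwa [SModEq.sub_mem, smul_eq_mul, Ideal.mul_top, Ideal.span_singleton_pow, Ideal.mem_span_singleton] at this
  choose c hc using hcoord
  refine ⟨c, ?_⟩
  have hH := Base.Classes.isHausdorff (Basic.isBase ht) hB B
  refine sub_eq_zero.mp (hH.haus _ fun k => SModEq.zero.mpr ?_)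
  rw [← Ideal.map_pow, smul_eq_mul, Ideal.mul_top, Ideal.span_singleton_pow, Ideal.map_span,
    Set.image_singleton, Ideal.mem_span_singleton, map_pow]
  have h1 : algebraMap R B t ^ k ∣ v (S k - c) := by
    rw [show v (S k - c) = ∑ τ : T', (S k τ - c τ) • (τ : B) by simp [v, Fintype.linearCombination_apply]]
    refine Finset.dvd_sum fun τ _ => ?_
    rw [Algebra.smul_def, ← map_pow]
    exact (map_dvd _ (hc τ k)).mul_right _
  rw [map_sub] at h1
  have h2 : v c - y = -(v (S k) - v c) - algebraMap R B t ^ k * it k := by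
    linear_combination -(hS k)
  rw [h2]
  exact dvd_sub h1.neg_right (dvd_mul_right _ _)

include ht in
theorem dvd_pow_of_krullDimLE [IsDomain B] [Ring.KrullDimLE 1 B] (hB : AdicRing.TopFiniteType R (Ideal.span {t}) B)
    (x : B) (hx : x ≠ 0) : ∃ k, x ∣ algebraMap R B t ^ k := by
  by_contra! h
  obtain ⟨P, hP, hle, hdis⟩ := Ideal.exists_le_prime_disjoint (Ideal.span {x})
    (Submonoid.powers (algebraMap R B t)) (Set.disjoint_left.mpr fun y hy hy' => by
      obtain ⟨k, rfl⟩ := hy'; exact h k (Ideal.mem_span_singleton.mp hy))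
  have hne : P ≠ ⊥ := fun h0 => hx (Ideal.span_singleton_eq_bot.mp (le_bot_iff.mp (h0 ▸ hle)))
  have := hP.isMaximal_of_ne_bot hne
  exact Set.disjoint_left.mp hdis (Hensel.Idem.mem_of_mem_jacobson
    (le_jacobson ht hB (Ideal.mem_map_of_mem _ (Base.Classes.mem_maximalIdeal (t := t)))) P) ⟨1, pow_one _⟩

include ht in
theorem finite_of_admissible [IsDomain B] (hB : AdicRing.Admissible R (Ideal.span {t}) B)
    (hdim : ringKrullDim B = 1) : Module.Finite R B ∧ FaithfulSMul R B := by
  have htf := noPowTorsion_iff.mp hB.2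
  have hft : AdicRing.TopFiniteType R (Ideal.span {t}) B :=
    ⟨hB.1.choose, hB.1.choose_spec.choose, hB.1.choose_spec.choose_spec.1⟩
  have : Ring.KrullDimLE 1 B := Ring.krullDimLE_iff.mpr hdim.le
  exact ⟨finite_of_dvd_pow ht hft htf (dvd_pow_of_krullDimLE ht hft), faithfulSMul_of_torsionFree ht htf⟩

include ht in
/-- The quotient by the contraction of a maximal ideal of the generic fibre. -/
theorem finite_quotient [IsDomain B] {A : Type u} [CommRing A] [Algebra R A]
    (hA : AdicRing.TopFiniteType R (Ideal.span {t}) A) (π : A →ₐ[R] B) (hπ : Function.Surjective π)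
    (htf : ∀ x : B, t • x = 0 → x = 0) (hdiv : ∀ x : B, x ≠ 0 → ∃ k, x ∣ algebraMap R B t ^ k) :
    AdicRing.Admissible R (Ideal.span {t}) B ∧ Module.Finite R B ∧ FaithfulSMul R B ∧ IsLocalRing B ∧
      ringKrullDim B = 1 := by
  obtain ⟨n, φ, hφ⟩ := hA
  have hB : AdicRing.TopFiniteType R (Ideal.span {t}) B := ⟨n, π.comp φ, hπ.comp hφ⟩
  have hfin := finite_of_dvd_pow ht hB htf hdiv
  have := faithfulSMul_of_torsionFree ht htf
  exact ⟨⟨Base.Finite.topFinitePresentation (Basic.isBase ht) hB (noPowTorsion_iff.mpr htf),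
    noPowTorsion_iff.mpr htf⟩, hfin, this, Basic.isLocalRing_of_finite_domain ht B,
    Basic.ringKrullDim_eq_one ht B⟩

end Groth.Agent.Adic.Rank1.Point
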