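import Groth.Agent.Adic.Base.FiniteAlgebra
import Groth.Agent.Adic.Rank1.Point
import Mathlib.RingTheory.Polynomial.ScaleRoots
import Mathlib.RingTheory.TensorProduct.Maps
import Mathlib.RingTheory.Flat.TorsionFree
import Mathlib.RingTheory.Localization.FractionRing

/-! Admissibility and universal property of `A[f_1, …, f_n]` in the generic fibre. -/

namespace Groth.Agent.Adic.Rank1.Adjoin

open TensorProduct

universe u

variable {R : Type u} [CommRing R] [IsDomain R] [ValuationRing R] [Ring.KrullDimLE 1 R]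
  {t : R} (ht : t ≠ 0) [IsAdicComplete (Ideal.span {t}) R]

include ht

theorem smul_eq_zero_of {B : Type u} [CommRing B] [Algebra R B]
    (hB : AdicRing.NoPowTorsion (Ideal.span {t}) B) {c : R} (hc : c ≠ 0) {x : B} (h : c • x = 0) : x = 0 := by
  obtain ⟨j, u, hu⟩ := Base.Saturated.exists_dvd_pow (Basic.not_isUnit (t := t)) hc
  refine hB x j fun a ha => ?_
  rw [Ideal.span_singleton_pow] at ha
  obtain ⟨v, rfl⟩ := Ideal.mem_span_singleton'.mp ha
  rw [mul_smul, hu, mul_comm, mul_smul, h, smul_zero, smul_zero]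

theorem flat_of_noPowTorsion {B : Type u} [CommRing B] [Algebra R B]
    (hB : AdicRing.NoPowTorsion (Ideal.span {t}) B) : Module.Flat R B := by
  have : Module.IsTorsionFree R B := Module.isTorsionFree_iff_smul_eq_zero.mpr fun c x hcx => by
    rcases eq_or_ne c 0 with h | h
    · exact .inl h
    · exact .inr (smul_eq_zero_of ht hB h hcx)
  rw [Module.Flat.flat_iff_torsion_eq_bot_of_isBezout]
  exact Submodule.isTorsionFree_iff_torsion_eq_bot.mp this

theorem admissible {A : Type u} [CommRing A] [Algebra R A] (hA : AdicRing.Admissible R (Ideal.span {t}) A)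
    {n : ℕ} (f : Fin n → A ⊗[R] FractionRing R) (hf : ∀ i, IsIntegral A (f i)) :
    AdicRing.Admissible R (Ideal.span {t}) ↥(Algebra.adjoin A (Set.range f)) ∧
      Module.Finite A ↥(Algebra.adjoin A (Set.range f)) := by
  have hfin : Module.Finite A ↥(Algebra.adjoin A (Set.range f)) := Module.Finite.iff_fg.mpr
    (fg_adjoin_of_finite (Set.finite_range f) (by rintro _ ⟨i, rfl⟩; exact hf i))
  have hR := Basic.isBase ht
  have hft : AdicRing.TopFiniteType R (Ideal.span {t}) A :=
    ⟨hA.1.choose, hA.1.choose_spec.choose, hA.1.choose_spec.choose_spec.1⟩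
  have hT : AdicRing.NoPowTorsion (Ideal.span {t}) ↥(Algebra.adjoin A (Set.range f)) := by
    refine (Point.noPowTorsion_iff (R := R) (t := t) (B := ↥(Algebra.adjoin A (Set.range f)))).mpr fun x hx => Subtype.ext ?_
    have h : t • (x : A ⊗[R] FractionRing R) = 0 := congrArg Subtype.val hx
    have h' : algebraMap R (A ⊗[R] FractionRing R) t * (x : A ⊗[R] FractionRing R) = 0 := (Algebra.smul_def _ _).symm.trans h
    refine ((IsUnit.mul_right_eq_zero ?_).mp h')
    rw [← (Algebra.TensorProduct.includeRight : FractionRing R →ₐ[R] A ⊗[R] FractionRing R).commutes t]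
    exact (IsUnit.mk0 _ ((map_ne_zero_iff _ (IsFractionRing.injective R (FractionRing R))).mpr ht)).map _
  exact ⟨⟨Base.Finite.topFinitePresentation hR (Base.FiniteAlgebra.topFiniteType hR hft _) hT, hT⟩, hfin⟩

theorem existsUnique_extension {A : Type u} [CommRing A] [Algebra R A]
    (hA : AdicRing.Admissible R (Ideal.span {t}) A)
    {n : ℕ} (f : Fin n → A ⊗[R] FractionRing R) (hf : ∀ i, IsIntegral A (f i))
    {c : R} (hc : c ≠ 0) (g : Fin n → A)
    (hg : ∀ i, algebraMap A (A ⊗[R] FractionRing R) (g i) = c • f i)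
    {D : Type u} [CommRing D] [Algebra R D] (hD : AdicRing.Admissible R (Ideal.span {t}) D)
    (φ : A →ₐ[R] D)
    (hgen : (Ideal.span (insert (algebraMap R A c) (Set.range g))).map φ =
          Ideal.span {algebraMap R D c} ∨
      ∃ i, (Ideal.span (insert (algebraMap R A c) (Set.range g))).map φ = Ideal.span {φ (g i)}) :
    (Ideal.span (insert (algebraMap R A c) (Set.range g))).map φ = Ideal.span {algebraMap R D c} ∧
      ∃! ψ : ↥(Algebra.adjoin A (Set.range f)) →ₐ[R] D,
        ψ.comp (IsScalarTower.toAlgHom R A ↥(Algebra.adjoin A (Set.range f))) = φ := by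
  classical
  have := flat_of_noPowTorsion ht hA.2
  have := flat_of_noPowTorsion ht hD.2
  let K := FractionRing R
  have hinjA : Function.Injective (algebraMap A (A ⊗[R] K)) :=
    Algebra.TensorProduct.includeLeft_injective (S := A) (IsFractionRing.injective R K)
  let incl : D →ₐ[R] D ⊗[R] K := Algebra.TensorProduct.includeLeft
  have hinjD : Function.Injective incl := Algebra.TensorProduct.includeLeft_injective (S := R) (IsFractionRing.injective R K)
  set 𝔞 := Ideal.span (insert (algebraMap R A c) (Set.range g)) with h𝔞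
  have hcD : algebraMap R D c ∈ 𝔞.map φ := by
    rw [← φ.commutes c]
    exact Ideal.mem_map_of_mem _ (Ideal.subset_span (Set.mem_insert _ _))
  have hmain : 𝔞.map φ = Ideal.span {algebraMap R D c} := by
    rcases hgen with h | ⟨i, h⟩
    · exact h
    rw [h] at hcD
    obtain ⟨a, ha⟩ := Ideal.mem_span_singleton'.mp hcD
    obtain ⟨p, hp, hpf⟩ := hf i
    set cA := algebraMap R A c
    have heval : (p.scaleRoots cA).eval (g i) = 0 := hinjA <| by
      rw [map_zero, ← Polynomial.aeval_algebraMap_apply_eq_algebraMap_eval, hg i,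
        show c • f i = algebraMap A (A ⊗[R] K) cA * f i by
          rw [← IsScalarTower.algebraMap_apply R A (A ⊗[R] K)]; exact Algebra.smul_def c (f i)]
      exact Polynomial.scaleRoots_aeval_eq_zero hpf
    set d := φ (g i)
    set N := p.natDegree
    have hsum : d ^ N * ∑ k ∈ Finset.range (N + 1), φ (p.coeff k) * a ^ (N - k) = 0 := by
      have := congrArg φ heval
      rw [map_zero, Polynomial.eval_eq_sum_range, map_sum, Polynomial.natDegree_scaleRoots] at this
      rw [Finset.mul_sum, ← this]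
      refine Finset.sum_congr rfl fun k hk => ?_
      rw [Polynomial.coeff_scaleRoots, map_mul, map_mul, map_pow, map_pow, φ.commutes, ← ha, mul_pow]
      have hk' : k + (N - k) = N := Nat.add_sub_cancel' (Finset.mem_range_succ_iff.mp hk)
      calc d ^ N * (φ (p.coeff k) * a ^ (N - k)) = d ^ (k + (N - k)) * (φ (p.coeff k) * a ^ (N - k)) := by rw [hk']
        _ = _ := by rw [pow_add]; ring
    have hd : ∀ x : D, d * x = 0 → x = 0 := fun x hx => smul_eq_zero_of ht hD.2 hc (by
      rw [Algebra.smul_def, ← ha, mul_assoc, hx, mul_zero])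
    have hd' : ∀ (m : ℕ) (x : D), d ^ m * x = 0 → x = 0 := by
      intro m
      induction m with
      | zero => simp
      | succ m ih => exact fun x hx => ih x (hd _ (by rw [← hx]; ring))
    have hz := hd' _ _ hsum
    rw [Finset.sum_range_succ, Nat.sub_self, pow_zero, mul_one,
      show p.coeff N = 1 from hp.coeff_natDegree, map_one] at hz
    have hu : IsUnit a := by
      refine .of_mul_eq_one (-(∑ k ∈ Finset.range N, φ (p.coeff k) * a ^ (N - k - 1))) ?_
      rw [mul_neg, Finset.mul_sum, neg_eq_iff_add_eq_zero, ← hz]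
      refine congrArg (· + 1) (Finset.sum_congr rfl fun k hk => ?_)
      have hk' : N - k = N - k - 1 + 1 := by have := Finset.mem_range.mp hk; omega
      conv_rhs => rw [hk', pow_succ]
      ring
    rw [h, ← ha, mul_comm, Ideal.span_singleton_mul_right_unit hu]
  refine ⟨hmain, ?_⟩
  have hb : ∀ i, ∃ b, φ (g i) = c • b := fun i => by
    obtain ⟨b, hb⟩ := Ideal.mem_span_singleton'.mp
      (hmain ▸ Ideal.mem_map_of_mem φ (Ideal.subset_span (Set.mem_insert_of_mem (algebraMap R A c) (Set.mem_range_self (f := g) i))))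
    exact ⟨b, by rw [← hb, Algebra.smul_def, mul_comm]⟩
  choose b hb using hb
  have hcu : IsUnit (algebraMap R (D ⊗[R] K) c) := by
    rw [← (Algebra.TensorProduct.includeRight : K →ₐ[R] D ⊗[R] K).commutes c]
    exact (IsUnit.mk0 _ ((map_ne_zero_iff _ (IsFractionRing.injective R K)).mpr hc)).map _
  let Φ : A ⊗[R] K →ₐ[R] D ⊗[R] K := Algebra.TensorProduct.map φ (AlgHom.id R K)
  have hΦ : ∀ a : A, Φ (algebraMap A (A ⊗[R] K) a) = incl (φ a) := fun a =>
    show Algebra.TensorProduct.map φ (AlgHom.id R K) (a ⊗ₜ[R] (1 : K)) = φ a ⊗ₜ[R] (1 : K) from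
      Algebra.TensorProduct.map_tmul φ (AlgHom.id R K) a 1
  have hrange : ∀ x ∈ Algebra.adjoin A (Set.range f), Φ x ∈ incl.range := by
    intro x hx
    induction hx using Algebra.adjoin_induction with
    | mem x hx =>
      obtain ⟨i, rfl⟩ := hx
      refine ⟨b i, ?_⟩
      apply hcu.mul_left_cancel
      rw [← Algebra.smul_def, ← Algebra.smul_def]
      change c • incl (b i) = c • Φ (f i)
      rw [← map_smul, ← map_smul, ← hg, hΦ, hb]
    | algebraMap a => exact ⟨φ a, (hΦ a).symm⟩
    | add x y _ _ hx hy => rw [map_add]; exact add_mem hx hy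
    | mul x y _ _ hx hy => rw [map_mul]; exact mul_mem hx hy
  let ψ : ↥(Algebra.adjoin A (Set.range f)) →ₐ[R] D :=
    (AlgEquiv.ofInjective incl hinjD).symm.toAlgHom.comp
      ((Φ.comp ((Algebra.adjoin A (Set.range f)).val.restrictScalars R)).codRestrict incl.range fun x => hrange _ x.2)
  have hψ : ∀ x, incl (ψ x) = Φ (x : A ⊗[R] K) := fun x =>
    congrArg Subtype.val ((AlgEquiv.ofInjective incl hinjD).apply_symm_apply ⟨Φ (x : A ⊗[R] K), hrange _ x.2⟩)
  refine ⟨ψ, AlgHom.ext fun a => hinjD ((hψ _).trans (hΦ a)), fun ψ' hψ' => ?_⟩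
  refine AlgHom.ext fun ⟨x, hx⟩ => ?_
  induction hx using Algebra.adjoin_induction with
  | mem x hx =>
    obtain ⟨i, rfl⟩ := hx
    refine sub_eq_zero.mp (smul_eq_zero_of ht hD.2 hc ?_)
    rw [smul_sub, sub_eq_zero, ← map_smul, ← map_smul]
    have hs : c • (⟨f i, Algebra.subset_adjoin ⟨i, rfl⟩⟩ : ↥(Algebra.adjoin A (Set.range f))) =
        algebraMap A _ (g i) := Subtype.ext (hg i).symm
    rw [hs]
    exact (AlgHom.congr_fun hψ' (g i)).trans (hinjD ((hψ _).trans (hΦ _))).symm
  | algebraMap a => exact (AlgHom.congr_fun hψ' a).trans (hinjD ((hψ _).trans (hΦ a))).symm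
  | add x y hx hy h1 h2 =>
    rw [show (⟨x + y, add_mem hx hy⟩ : ↥(Algebra.adjoin A (Set.range f))) = ⟨x, hx⟩ + ⟨y, hy⟩ from rfl, map_add, map_add, h1, h2]
  | mul x y hx hy h1 h2 =>
    rw [show (⟨x * y, mul_mem hx hy⟩ : ↥(Algebra.adjoin A (Set.range f))) = ⟨x, hx⟩ * ⟨y, hy⟩ from rfl, map_mul, map_mul, h1, h2]

end Groth.Agent.Adic.Rank1.Adjoin
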