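import Groth.Agent.Adic.Base.Classes
import Groth.Agent.Hensel.FactorLift
import Groth.Agent.Hensel.Decomp
import Mathlib.RingTheory.Henselian
import Mathlib.RingTheory.KrullDimension.LocalRing
import Mathlib.RingTheory.Ideal.GoingUp

/-! Complete valuation rings of height one: Hensel, integrality, finite domains. -/

namespace Groth.Agent.Adic.Rank1.Basic

open Polynomial IsLocalRing

universe u

variable {R : Type u} [CommRing R] [IsDomain R] [ValuationRing R] [Ring.KrullDimLE 1 R]
  {t : R} (ht : t ≠ 0) [IsAdicComplete (Ideal.span {t}) R]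

theorem not_isUnit : ¬ IsUnit t :=
  (IsLocalRing.mem_maximalIdeal t).mp (Base.Classes.mem_maximalIdeal (t := t))

include ht in
theorem isBase : AdicRing.IsBase R (Ideal.span {t}) :=
  ⟨inferInstance, .inr ⟨inferInstance, inferInstance, inferInstance, t, ht, rfl⟩⟩

include ht in
theorem isAdicComplete_span {s : R} (hs : s ≠ 0) (hsu : ¬ IsUnit s) : IsAdicComplete (Ideal.span {s}) R := by
  obtain ⟨j, hj⟩ := Base.Saturated.exists_dvd_pow (not_isUnit (t := t)) hs
  obtain ⟨L, hL⟩ := Base.Saturated.exists_dvd_pow hsu ht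
  have htc : IsAdicComplete (Ideal.span {t}) R := inferInstance
  have key : ∀ (a : R) (k : ℕ) (x : R), x ∈ (Ideal.span {a} ^ k • ⊤ : Submodule R R) ↔ a ^ k ∣ x := fun a k x => by
    rw [smul_eq_mul, Ideal.mul_top, Ideal.span_singleton_pow, Ideal.mem_span_singleton]
  have ts : ∀ k, t ^ k ∣ s ^ (L * k) := fun k => by rw [pow_mul]; exact pow_dvd_pow_of_dvd hL k
  have st : ∀ k, s ^ k ∣ t ^ (j * k) := fun k => by rw [pow_mul]; exact pow_dvd_pow_of_dvd hj k
  refine { haus' := fun x hx => htc.haus x fun k => ?_, prec' := fun f hf => ?_ }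
  · rw [SModEq.zero, key]
    exact (ts k).trans ((key _ _ _).mp (SModEq.zero.mp (hx (L * k))))
  · obtain ⟨x, hx⟩ := htc.prec (f := fun k => f (L * k)) fun {m n} hmn => by
      rw [SModEq.sub_mem, key]
      exact (ts m).trans ((key _ _ _).mp (SModEq.sub_mem.mp (hf (Nat.mul_le_mul_left L hmn))))
    refine ⟨x, fun n => ?_⟩
    rw [SModEq.sub_mem, key]
    have h1 : s ^ n ∣ f (max n (L * (j * n))) - x := by
      have h2 : s ^ n ∣ f (L * (j * n)) - x := (st n).trans ((key _ _ _).mp (SModEq.sub_mem.mp (hx (j * n))))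
      by_cases hle : n ≤ L * (j * n)
      · rwa [max_eq_right hle]
      · rw [max_eq_left (le_of_not_ge hle)]
        have h4 : t ^ (j * n) ∣ f n - f (L * (j * n)) := (ts (j * n)).trans
          (dvd_sub_comm.mp ((key _ _ _).mp (SModEq.sub_mem.mp (hf (le_of_not_ge hle)))))
        simpa using dvd_add ((st n).trans h4) h2
    simpa using dvd_add ((key _ _ _).mp (SModEq.sub_mem.mp (hf (le_max_left n (L * (j * n)))))) h1

include ht in
theorem henselianLocalRing : HenselianLocalRing R := by
  refine ⟨fun f hf a₀ h₁ h₂ => ?_⟩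
  have hs : ∃ s : R, s ∈ maximalIdeal R ∧ s ≠ 0 ∧ s ∣ f.eval a₀ := by
    rcases eq_or_ne (f.eval a₀) 0 with h | h
    · exact ⟨t, Base.Classes.mem_maximalIdeal, ht, h ▸ dvd_zero t⟩
    · exact ⟨_, h₁, h, dvd_rfl⟩
  obtain ⟨s, hsm, hs0, hdvd⟩ := hs
  have := isAdicComplete_span ht hs0 ((mem_maximalIdeal s).mp hsm)
  have hle : Ideal.span {s} ≤ maximalIdeal R := (Ideal.span_singleton_le_iff_mem _).mpr hsm
  obtain ⟨a, ha, haa⟩ := HenselianRing.is_henselian (I := Ideal.span {s}) f hf a₀
    (Ideal.mem_span_singleton.mpr hdvd) (h₂.map _)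
  exact ⟨a, ha, hle haa⟩

include ht in
/-- Any root of a nonzero polynomial over `R` in a field is integral or has integral inverse. -/
theorem isIntegral_or {L : Type*} [Field L] [Algebra R L] [FaithfulSMul R L] {x : L} {q : R[X]} (hq : q ≠ 0)
    (hx : aeval x q = 0) (hmin : ∀ p : R[X], p ≠ 0 → aeval x p = 0 → q.natDegree ≤ p.natDegree) :
    IsIntegral R x ∨ ∃ r : R[X], r.natDegree = q.natDegree ∧ aeval x r = 0 ∧ IsUnit (r.coeff 0) ∧
      r.coeff q.natDegree ∈ maximalIdeal R := by
  classical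
  have := henselianLocalRing ht
  obtain ⟨c, hc, hcall⟩ := Base.Saturated.exists_dvd_all (q.support.image q.coeff)
    ((Polynomial.support_nonempty.mpr hq).image _)
  obtain ⟨e, he, rfl⟩ := Finset.mem_image.mp hc
  obtain ⟨q', hq'⟩ : C (q.coeff e) ∣ q := C_dvd_iff_dvd_coeff _ _ |>.mpr fun k => by
    by_cases hk : k ∈ q.support
    · exact hcall _ (Finset.mem_image_of_mem _ hk)
    · rw [notMem_support_iff.mp hk]; exact dvd_zero _
  have he0 : q.coeff e ≠ 0 := mem_support_iff.mp he
  have hq'e : q'.coeff e = 1 := by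
    have := congrArg (fun p => p.coeff e) hq'
    simp only [coeff_C_mul] at this
    exact (mul_right_eq_self₀.mp this.symm).resolve_right he0
  have hx' : aeval x q' = 0 := by
    rw [hq', map_mul, aeval_C, mul_eq_zero] at hx
    exact hx.resolve_left ((map_ne_zero_iff _ (FaithfulSMul.algebraMap_injective R L)).mpr he0)
  have hdeg : q'.natDegree = q.natDegree := by
    conv_rhs => rw [hq']
    rw [natDegree_C_mul he0]
  have hne : q'.map (residue R) ≠ 0 := fun h => by
    have := congrArg (fun p => p.coeff e) h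
    simp [hq'e] at this
  set d := q.natDegree
  set d' := (q'.map (residue R)).natDegree
  have hd' : d' ≤ d := hdeg ▸ natDegree_map_le
  rcases hd'.lt_or_eq with hlt | heq
  · right
    refine ⟨q', hdeg, hx', ?_, ?_⟩
    · rcases Nat.eq_zero_or_pos d' with h0 | hpos
      · have h1 : q'.map (residue R) = C ((q'.map (residue R)).coeff 0) := eq_C_of_natDegree_eq_zero h0
        refine Groth.Agent.Hensel.Lift.isUnit_of_residue_ne_zero fun h => hne ?_
        rw [h1, coeff_map, h, map_zero]
      · exfalso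
        set g₀ := C ((q'.map (residue R)).leadingCoeff⁻¹) * q'.map (residue R)
        have hg₀ : g₀.Monic := by
          rw [Monic, leadingCoeff_mul, leadingCoeff_C, inv_mul_cancel₀ (leadingCoeff_ne_zero.mpr hne)]
        have hcop : IsCoprime g₀ (C (q'.map (residue R)).leadingCoeff) :=
          ⟨0, C ((q'.map (residue R)).leadingCoeff⁻¹), by
            rw [zero_mul, zero_add, ← map_mul, inv_mul_cancel₀ (leadingCoeff_ne_zero.mpr hne), map_one]⟩
        obtain ⟨g, h, hgh, hg, hgmap, -⟩ := Groth.Agent.Hensel.FactorLift.exists_lift q' g₀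
          (C (q'.map (residue R)).leadingCoeff) hg₀ hcop (by
            rw [mul_comm g₀, ← mul_assoc, ← map_mul, mul_inv_cancel₀ (leadingCoeff_ne_zero.mpr hne), map_one, one_mul])
        have hgd : g.natDegree = d' := by
          rw [← hg.natDegree_map (residue R), hgmap,
            natDegree_C_mul (inv_ne_zero (leadingCoeff_ne_zero.mpr hne))]
        have hh0 : h ≠ 0 := fun h0 => by simp [hgh, h0] at hq'e
        have hhd : d' + h.natDegree = d := by rw [← hgd, ← hg.natDegree_mul' hh0, ← hgh, hdeg]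
        rw [hgh, map_mul, mul_eq_zero] at hx'
        rcases hx' with hx' | hx'
        · have := hmin g hg.ne_zero hx'; omega
        · have := hmin h hh0 hx'; omega
    · rw [← residue_eq_zero_iff, ← coeff_map]
      exact coeff_eq_zero_of_natDegree_lt hlt
  · left
    have hu : IsUnit (q'.coeff d) := Groth.Agent.Hensel.Lift.isUnit_of_residue_ne_zero fun h => by
      have h1 := leadingCoeff_ne_zero.mpr hne
      rw [leadingCoeff, ← show d' = (q'.map (residue R)).natDegree from rfl, heq, coeff_map] at h1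
      exact h1 h
    obtain ⟨u, hu⟩ := hu
    refine ⟨C (↑u⁻¹ : R) * q', ?_, by rw [← aeval_def, map_mul, hx', mul_zero]⟩
    refine monic_of_natDegree_le_of_coeff_eq_one d ?_ (by rw [coeff_C_mul, ← hu, Units.inv_mul])
    rw [natDegree_C_mul u⁻¹.ne_zero, hdeg]

include ht in
theorem isIntegral_or_inv {L : Type*} [Field L] [Algebra R L] [FaithfulSMul R L] {x : L}
    (hx : IsAlgebraic R x) : IsIntegral R x ∨ IsIntegral R x⁻¹ := by
  classical
  obtain ⟨p, hp0, hp⟩ := hx
  have hex : ∃ d, ∃ q : R[X], q ≠ 0 ∧ aeval x q = 0 ∧ q.natDegree = d := ⟨_, p, hp0, hp, rfl⟩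
  obtain ⟨q, hq0, hq, hqd⟩ := Nat.find_spec hex
  rcases isIntegral_or ht hq0 hq fun r hr hr' => hqd ▸ Nat.find_min' hex ⟨r, hr, hr', rfl⟩ with h | ⟨r, hrd, hr, hu, -⟩
  · exact .inl h
  right
  rcases eq_or_ne x 0 with rfl | hx0
  · simp [isIntegral_zero]
  obtain ⟨u, hu⟩ := hu
  refine ⟨C (↑u⁻¹ : R) * r.reverse, ?_, ?_⟩
  · refine monic_of_natDegree_le_of_coeff_eq_one r.natDegree ?_ ?_
    · exact (natDegree_C_mul_le _ _).trans (reverse_natDegree_le r)
    · rw [coeff_C_mul, coeff_reverse, revAt_le le_rfl, Nat.sub_self, ← hu, Units.inv_mul]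
  · have hinv : Invertible x := invertibleOfNonzero hx0
    have h1 : eval₂ (algebraMap R L) (⅟x) r.reverse = 0 :=
      (eval₂_reverse_eq_zero_iff (algebraMap R L) x r).mpr hr
    rw [invOf_eq_inv] at h1
    rw [eval₂_mul, h1, mul_zero]

omit [IsAdicComplete (Ideal.span {t}) R] [ValuationRing R] in
theorem isUnit_of_isUnit_algebraMap {B : Type u} [CommRing B] [Algebra R B] [FaithfulSMul R B]
    [Algebra.IsIntegral R B] {r : R} (h : IsUnit (algebraMap R B r)) : IsUnit r :=
  have := (algebraMap_isIntegral_iff.mpr ‹Algebra.IsIntegral R B›).isLocalHom (FaithfulSMul.algebraMap_injective R B)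
  (isUnit_map_iff (algebraMap R B) r).mp h

include ht in
theorem isLocalRing_of_finite_domain (B : Type u) [CommRing B] [IsDomain B] [Algebra R B] [Module.Finite R B] :
    IsLocalRing B := by
  classical
  have := henselianLocalRing ht
  obtain ⟨ι, _, C, _, hC, ⟨φ⟩⟩ := Groth.Agent.Hensel.Decomp.exists_equiv_pi (R := R) B
  obtain ⟨i, hi⟩ : ∃ i, φ.symm (Pi.single i 1) ≠ 0 := by
    by_contra! h
    refine one_ne_zero (α := B) ?_
    rw [← map_one φ.symm, ← Finset.univ_sum_single (1 : ∀ i, C i), map_sum]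
    exact Finset.sum_eq_zero fun i _ => h i
  have hone : φ.symm (Pi.single i 1) = 1 := mul_left_cancel₀ hi (by
    rw [← map_mul, ← Pi.single_mul, one_mul, mul_one])
  have h1 : Pi.single i (1 : C i) = 1 := φ.symm.injective (hone.trans (map_one _).symm)
  let e : B ≃+* C i := RingEquiv.ofBijective ((Pi.evalRingHom C i).comp φ.toRingHom)
    ⟨(injective_iff_map_eq_zero _).mpr fun b hb => φ.injective (by
      rw [map_zero, ← one_mul (φ b), ← h1, ← Pi.single_mul_left,
        show φ b i = 0 from hb, mul_zero, Pi.single_zero]),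
      fun c => ⟨φ.symm (Pi.single i c), by simp⟩⟩
  exact e.symm.isLocalRing

include ht in
theorem ringKrullDim_eq_one (B : Type u) [CommRing B] [IsDomain B] [Algebra R B] [FaithfulSMul R B]
    [Algebra.IsIntegral R B] : ringKrullDim B = 1 := by
  have h1 : Ring.KrullDimLE 1 B := Ring.krullDimLE_one_iff_of_noZeroDivisors.mpr fun P hP hPp => by
    have h0 : P.comap (algebraMap R B) ≠ ⊥ := fun h => hP (Ideal.eq_bot_of_comap_eq_bot h)
    have := (Ideal.IsPrime.comap (algebraMap R B) (K := P)).isMaximal_of_ne_bot h0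
    exact Ideal.isMaximal_of_isIntegral_of_isMaximal_comap P this
  refine le_antisymm (Ring.krullDimLE_iff.mp h1) ?_
  rw [ringKrullDim, Order.one_le_krullDim_iff]
  have hu : ¬ IsUnit (algebraMap R B t) := fun h => not_isUnit (t := t) (isUnit_of_isUnit_algebraMap h)
  obtain ⟨M, hM, htM⟩ := exists_max_ideal_of_mem_nonunits hu
  exact ⟨⟨⊥, Ideal.isPrime_bot⟩, ⟨M, hM.isPrime⟩, bot_lt_iff_ne_bot.mpr fun h =>
    ht (FaithfulSMul.algebraMap_injective R B (by rw [map_zero]; exact ((show M = (⊥ : Ideal B) from congrArg PrimeSpectrum.asIdeal h).le htM)))⟩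

end Groth.Agent.Adic.Rank1.Basic
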