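import Groth.Agent.Adic.Rank1.RigPoint
import Groth.Agent.Adic.Base.CompletionMap
import Mathlib.RingTheory.Ideal.MinimalPrime.Localization
import Mathlib.RingTheory.Norm.Basic
import Mathlib.FieldTheory.IntermediateField.Adjoin.Basic
import Mathlib.FieldTheory.Minpoly.IsIntegrallyClosed
import Mathlib.RingTheory.AdjoinRoot
import Mathlib.Algebra.GCDMonoid.IntegrallyClosed

/-! Rig-points above closed points, blow-up lifting, norm criterion. -/

namespace Groth.Agent.Adic.Rank1.More

open IsLocalRing

universe u

theorem topFiniteType_self {R : Type u} [CommRing R] (I : Ideal R) [IsAdicComplete I R] :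
    AdicRing.TopFiniteType R I R := by
  let g : MvPolynomial (Fin 0) R →+* R := (MvPolynomial.aeval (R := R) (Fin.elim0 : Fin 0 → R)).toRingHom
  have hg : I.map (MvPolynomial.C : R →+* MvPolynomial (Fin 0) R) ≤ I.comap g :=
    Ideal.map_le_iff_le_comap.mpr fun r hr => by simpa [g] using hr
  let e := Base.CompletionMap.extend I g hg
  have he : ∀ r : R, e (algebraMap R _ r) = r := fun r => by
    rw [IsScalarTower.algebraMap_apply R (MvPolynomial (Fin 0) R) (AdicRing.RPow R I 0)]
    exact (Base.CompletionMap.extend_of I g hg _).trans (by simp [g])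
  exact ⟨0, { e with commutes' := he }, fun r => ⟨algebraMap R _ r, he r⟩⟩

variable {R : Type u} [CommRing R] [IsDomain R] [ValuationRing R] [Ring.KrullDimLE 1 R]
  {t : R} (ht : t ≠ 0) [IsAdicComplete (Ideal.span {t}) R]

theorem exists_free_lift {k' : Type u} [Field k'] [Algebra R k'] [Algebra (ResidueField R) k']
    [IsScalarTower R (ResidueField R) k'] [Module.Finite (ResidueField R) k'] :
    ∀ (n : ℕ) (a : Fin n → k'), ∃ (T : Type u) (_ : CommRing T) (_ : Algebra R T),
      Module.Free R T ∧ Module.Finite R T ∧ ∃ (ψ : T →ₐ[R] k') (z : Fin n → T), ∀ i, ψ (z i) = a i := by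
  intro n
  induction n with
  | zero => exact fun a => ⟨R, inferInstance, inferInstance, inferInstance, inferInstance, Algebra.ofId R k', Fin.elim0, fun i => i.elim0⟩
  | succ n ih =>
    intro a
    obtain ⟨T, _, _, hfree, hfin, ψ, z, hz⟩ := ih fun i => a i.castSucc
    obtain ⟨f, hf, -, hfm⟩ := Polynomial.lifts_and_degree_eq_and_monic
      ((Polynomial.lifts_iff_coeff_lifts (f := residue R) _).mpr fun k => residue_surjective _)
      (minpoly.monic (IsIntegral.of_finite (ResidueField R) (a (Fin.last n))))
    let g := f.map (algebraMap R T)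
    have hg : g.Monic := hfm.map _
    have : Module.Finite T (AdjoinRoot g) := hg.finite_adjoinRoot
    have : Module.Free T (AdjoinRoot g) := hg.free_adjoinRoot
    have hroot : g.eval₂ (ψ : T →+* k') (a (Fin.last n)) = 0 := by
      rw [Polynomial.eval₂_map, show (ψ : T →+* k').comp (algebraMap R T) = algebraMap R k' from ψ.comp_algebraMap,
        ← Polynomial.aeval_def, ← Polynomial.aeval_map_algebraMap (ResidueField R),
        show algebraMap R (ResidueField R) = residue R from rfl, hf, minpoly.aeval]
    refine ⟨AdjoinRoot g, inferInstance, inferInstance, Module.Free.of_basis ((Module.Free.chooseBasis R T).smulTower (Module.Free.chooseBasis T (AdjoinRoot g))), Module.Finite.trans T _,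
      AdjoinRoot.liftAlgHom g ψ (a (Fin.last n)) hroot, Fin.snoc (fun i => AdjoinRoot.of g (z i)) (AdjoinRoot.root g),
      fun i => ?_⟩
    induction i using Fin.lastCases with
    | last => simp
    | cast i => simp [hz]

include ht in
theorem finite_quotient_of_hom {n : ℕ} {T : Type u} [CommRing T] [IsDomain T] [Algebra R T] [FaithfulSMul R T]
    [Algebra.IsIntegral R T] (η : AdicRing.RPow R (Ideal.span {t}) n →ₐ[R] T) :
    ringKrullDim (AdicRing.RPow R (Ideal.span {t}) n ⧸ RingHom.ker η.toRingHom) = 1 := by
  set B := η.range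
  have hbase := Basic.isBase ht
  have htf : ∀ x : B, t • x = 0 → x = 0 := fun x hx => by
    have h := congrArg Subtype.val hx
    rw [B.coe_smul, Algebra.smul_def] at h
    exact Subtype.ext ((mul_eq_zero.mp h).resolve_left ((map_ne_zero_iff _ (FaithfulSMul.algebraMap_injective R T)).mpr ht))
  have hdiv : ∀ x : B, x ≠ 0 → ∃ k, x ∣ algebraMap R B t ^ k := by
    intro x hx
    have hxi : IsIntegral R x := (isIntegral_algHom_iff B.val Subtype.val_injective).mp
      (Algebra.IsIntegral.isIntegral (R := R) (x : T))
    obtain ⟨p, hp0, hpx⟩ := hxi.isAlgebraic.exists_nonzero_coeff_and_aeval_eq_zero (mem_nonZeroDivisors_of_ne_zero hx)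
    obtain ⟨k, c, hc⟩ := Base.Saturated.exists_dvd_pow (Basic.not_isUnit (t := t)) hp0
    refine ⟨k, ?_⟩
    rw [← map_pow, hc, map_mul]
    refine Dvd.dvd.mul_right ?_ _
    rw [← Polynomial.X_mul_divX_add p, map_add, map_mul, Polynomial.aeval_X, Polynomial.aeval_C,
      add_eq_zero_iff_eq_neg'] at hpx
    exact hpx ▸ (dvd_mul_right x _).neg_right
  have h := (Point.finite_quotient ht ⟨n, AlgHom.id R _, fun x => ⟨x, rfl⟩⟩ η.rangeRestrict
    η.rangeRestrict_surjective htf hdiv).2.2.2.2
  rw [ringKrullDim_eq_of_ringEquiv (RingHom.quotientKerEquivOfSurjective (f := η.rangeRestrict.toRingHom)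
    η.rangeRestrict_surjective).symm] at h
  rw [← h]
  refine ringKrullDim_eq_of_ringEquiv (Ideal.quotEquivOfEq ?_)
  ext x
  simp [Subtype.ext_iff]

include ht in
theorem exists_prime_le_maximal (n : ℕ) (m : Ideal (AdicRing.RPow R (Ideal.span {t}) n)) [m.IsMaximal]
    (hm : algebraMap R (AdicRing.RPow R (Ideal.span {t}) n) t ∈ m) :
    ∃ p : Ideal (AdicRing.RPow R (Ideal.span {t}) n), p.IsPrime ∧ p ≤ m ∧
      algebraMap R (AdicRing.RPow R (Ideal.span {t}) n) t ∉ p ∧
      ringKrullDim (AdicRing.RPow R (Ideal.span {t}) n ⧸ p) = 1 := by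
  classical
  let k' := AdicRing.RPow R (Ideal.span {t}) n ⧸ m
  let := Ideal.Quotient.field m
  let D := Base.RestrictedPoly.dense t n
  have hmR : maximalIdeal R ≤ RingHom.ker (algebraMap R k') := fun a ha => by
    rw [RingHom.mem_ker]
    show algebraMap R k' a = 0
    rw [IsScalarTower.algebraMap_apply R (AdicRing.RPow R (Ideal.span {t}) n) k', Ideal.Quotient.algebraMap_eq,
      Ideal.Quotient.eq_zero_iff_mem]
    rcases eq_or_ne a 0 with rfl | ha0
    · simp
    obtain ⟨j, hj⟩ := Base.Saturated.exists_dvd_pow ((mem_maximalIdeal a).mp ha) ht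
    obtain ⟨u, hu⟩ := hj
    refine Ideal.IsPrime.mem_of_pow_mem inferInstance j ?_
    rw [← map_pow, hu, map_mul]
    exact m.mul_mem_right _ hm
  let _ : Algebra (ResidueField R) k' :=
    (Ideal.Quotient.lift (maximalIdeal R) (algebraMap R k') fun a ha => hmR ha).toAlgebra
  have : IsScalarTower R (ResidueField R) k' := IsScalarTower.of_algebraMap_eq' rfl
  let π := Ideal.Quotient.mkₐ R m
  have hsurj : Function.Surjective (π.comp D.ι) := fun y => by
    obtain ⟨y, rfl⟩ := Ideal.Quotient.mk_surjective y
    obtain ⟨p, w, hw⟩ := D.dense y 1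
    refine ⟨p, (Ideal.Quotient.eq.mpr ?_ : Ideal.Quotient.mk m (D.ι p) = _)⟩
    rw [← neg_sub, hw, pow_one]
    exact neg_mem (m.mul_mem_right _ hm)
  have : Algebra.FiniteType R k' := Algebra.FiniteType.of_surjective _ hsurj
  have : Algebra.FiniteType (ResidueField R) k' :=
    Algebra.FiniteType.of_restrictScalars_finiteType R (ResidueField R) _
  have : Module.Finite (ResidueField R) k' := finite_of_finite_type_of_isJacobsonRing (ResidueField R) k'
  obtain ⟨T, _, _, _, _, ψ, z, hz⟩ := exists_free_lift (R := R) (k' := k') n fun i => π (D.ι (MvPolynomial.X i))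
  have := RingHom.ker_isPrime ψ.toRingHom
  obtain ⟨q, hq, hqle⟩ := Ideal.exists_minimalPrimes_le (J := RingHom.ker ψ.toRingHom) (I := ⊥) bot_le
  have : q.IsPrime := hq.1.1
  have hinj : Function.Injective (algebraMap R T) := by
    have : Nontrivial T := ψ.toRingHom.domain_nontrivial
    exact FaithfulSMul.algebraMap_injective R T
  have htq : ∀ r : R, r ≠ 0 → algebraMap R T r ∉ q := fun r hr h =>
    Set.disjoint_left.mp (Ideal.disjoint_nonZeroDivisors_of_mem_minimalPrimes hq) h
      (mem_nonZeroDivisors_iff_right.mpr fun x hx => by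
        rw [mul_comm, ← Algebra.smul_def] at hx
        exact smul_right_injective T hr (by simpa using hx))
  have : FaithfulSMul R (T ⧸ q) := (faithfulSMul_iff_algebraMap_injective _ _).mpr
    ((injective_iff_map_eq_zero _).mpr fun r hr => by
      by_contra h
      exact htq r h (Ideal.Quotient.eq_zero_iff_mem.mp hr))
  have hcomplete : IsAdicComplete ((Ideal.span {t}).map (algebraMap R T)) T := by
    have := Base.Classes.isAdicComplete (Basic.isBase ht) (topFiniteType_self (Ideal.span {t})) T
    exact { toIsHausdorff := IsHausdorff.map_algebraMap_iff.mpr this.toIsHausdorff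
            toIsPrecomplete := IsPrecomplete.map_algebraMap_iff.mpr this.toIsPrecomplete }
  let g : MvPolynomial (Fin n) R →ₐ[R] T := MvPolynomial.aeval z
  have hg : (Ideal.span {t}).map (MvPolynomial.C : R →+* MvPolynomial (Fin n) R) ≤
      ((Ideal.span {t}).map (algebraMap R T)).comap g.toRingHom :=
    Ideal.map_le_iff_le_comap.mpr fun r hr => by
      rw [Ideal.mem_comap, Ideal.mem_comap]
      exact (show g.toRingHom (MvPolynomial.C r) = algebraMap R T r from MvPolynomial.aeval_C _ r) ▸
        Ideal.mem_map_of_mem _ hr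
  let e := Base.CompletionMap.extend _ g.toRingHom hg
  have he : ∀ p, e (algebraMap (MvPolynomial (Fin n) R) _ p) = g p := Base.CompletionMap.extend_of _ g.toRingHom hg
  let η : AdicRing.RPow R (Ideal.span {t}) n →ₐ[R] T ⧸ q :=
    (Ideal.Quotient.mkₐ R q).comp { e with
      commutes' := fun r => by
        rw [IsScalarTower.algebraMap_apply R (MvPolynomial (Fin n) R) (AdicRing.RPow R (Ideal.span {t}) n)]
        exact (he _).trans (g.commutes r) }
  refine ⟨RingHom.ker η.toRingHom, RingHom.ker_isPrime _, ?_, fun h => ?_, finite_quotient_of_hom ht η⟩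
  · let ψq : T ⧸ q →+* k' := Ideal.Quotient.lift q ψ.toRingHom fun x hx => hqle hx
    have hcomp : ψq.comp η.toRingHom = Ideal.Quotient.mk m := by
      have hpoly : ∀ p, ψq (η (algebraMap (MvPolynomial (Fin n) R) _ p)) = Ideal.Quotient.mk m (algebraMap _ _ p) := by
        intro p
        change ψ (e (algebraMap _ _ p)) = _
        rw [he]
        exact AlgHom.congr_fun (show ψ.comp g = π.comp D.ι from MvPolynomial.algHom_ext fun i => by simp [g, hz]) p
      refine Base.CompletionMap.hom_ext (⊥ : Ideal k') (Ideal.FG.map (Submodule.fg_span_singleton t) _) ?_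
        (RingHom.ext hpoly)
      refine Ideal.map_le_iff_le_comap.mpr fun r hr => ?_
      rw [Ideal.mem_comap, Ideal.mem_comap, Ideal.mem_bot]
      refine (hpoly _).trans (Ideal.Quotient.eq_zero_iff_mem.mpr ?_)
      obtain ⟨c, rfl⟩ := Ideal.mem_span_singleton'.mp hr
      rw [map_mul, map_mul]
      refine m.mul_mem_left _ ?_
      have e1 := IsScalarTower.algebraMap_apply R (MvPolynomial (Fin n) R) (AdicRing.RPow R (Ideal.span {t}) n) t
      exact e1 ▸ hm
    intro x hx
    rw [← Ideal.Quotient.eq_zero_iff_mem, ← hcomp, RingHom.comp_apply, RingHom.mem_ker.mp hx, map_zero]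
  · have h' : algebraMap R (T ⧸ q) t = 0 := (η.commutes t).symm.trans h
    exact ht (FaithfulSMul.algebraMap_injective R (T ⧸ q) (h'.trans (map_zero _).symm))

include ht in
theorem exists_principalization {B : Type u} [CommRing B] [IsDomain B] [Algebra R B]
    (hB : AdicRing.Admissible R (Ideal.span {t}) B) (hdim : ringKrullDim B = 1)
    {n : ℕ} (b : Fin n → B) (hb : ∃ i, b i ≠ 0) :
    ∃ B' : Subalgebra B (FractionRing B), Module.Finite B ↥B' ∧ IsLocalRing ↥B' ∧ ringKrullDim ↥B' = 1 ∧
      ∃ i, Ideal.span (Set.range (fun j => algebraMap B ↥B' (b j))) =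
        Ideal.span {algebraMap B ↥B' (b i)} := by
  classical
  obtain ⟨_, _⟩ := Point.finite_of_admissible ht hB hdim
  let L := FractionRing B
  have : FaithfulSMul R L := (faithfulSMul_iff_algebraMap_injective _ _).mpr (by
    rw [IsScalarTower.algebraMap_eq R B L]
    exact (IsFractionRing.injective B _).comp (FaithfulSMul.algebraMap_injective R B))
  have := RigPoint.valuationRing_integralClosure (B := B) ht
  let V := integralClosure B L
  obtain ⟨c, hc, hcall⟩ := Base.Saturated.exists_dvd_all (R := V)
    (Finset.univ.image fun j => algebraMap B V (b j)) ⟨_, Finset.mem_image_of_mem _ (Finset.mem_univ hb.choose)⟩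
  obtain ⟨i, -, rfl⟩ := Finset.mem_image.mp hc
  choose v hv using fun j => hcall _ (Finset.mem_image_of_mem (fun j => algebraMap B V (b j)) (Finset.mem_univ j))
  let B' := Algebra.adjoin B (Set.range fun j => (v j : L))
  have hfin : Module.Finite B B' := Module.Finite.iff_fg.mpr
    (fg_adjoin_of_finite (Set.finite_range _) (by rintro _ ⟨j, rfl⟩; exact (v j).2))
  have : Module.Finite R B' := Module.Finite.trans B B'
  have : FaithfulSMul R B' := (faithfulSMul_iff_algebraMap_injective _ _).mpr fun x y h =>
    FaithfulSMul.algebraMap_injective R L (congrArg Subtype.val h)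
  refine ⟨B', hfin, Basic.isLocalRing_of_finite_domain ht B', Basic.ringKrullDim_eq_one ht B', i, ?_⟩
  refine le_antisymm (Ideal.span_le.mpr ?_) (Ideal.span_mono (by simp))
  rintro _ ⟨j, rfl⟩
  refine Ideal.mem_span_singleton'.mpr ⟨⟨v j, Algebra.subset_adjoin ⟨j, rfl⟩⟩, Subtype.ext ?_⟩
  have := congrArg Subtype.val (hv j)
  change (v j : L) * algebraMap B L (b i) = algebraMap B L (b j)
  rw [mul_comm]
  exact this.symm

include ht in
theorem integral_iff_norm {L : Type u} [Field L] [Algebra R L] [Algebra (FractionRing R) L]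
    [IsScalarTower R (FractionRing R) L] [Algebra.IsAlgebraic (FractionRing R) L] (α : L) :
    IsIntegral R α ↔
      Algebra.norm (FractionRing R) (IntermediateField.AdjoinSimple.gen (FractionRing R) α) ∈
        (algebraMap R (FractionRing R)).range := by
  classical
  have : IsIntegrallyClosed R :=
    let _ := IsBezout.toGCDDomain R
    inferInstance
  set K := FractionRing R
  have : FaithfulSMul R L := (faithfulSMul_iff_algebraMap_injective _ _).mpr (by
    rw [IsScalarTower.algebraMap_eq R K L]
    exact (algebraMap K L).injective.comp (IsFractionRing.injective R K))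
  have hint : IsIntegral K α := Algebra.IsAlgebraic.isAlgebraic α |>.isIntegral
  set μ := minpoly K α
  have hnorm : Algebra.norm K (IntermediateField.AdjoinSimple.gen K α) = (-1) ^ μ.natDegree * μ.coeff 0 := by
    have := Algebra.PowerBasis.norm_gen_eq_coeff_zero_minpoly (IntermediateField.adjoin.powerBasis hint)
    rwa [IntermediateField.adjoin.powerBasis_gen, IntermediateField.adjoin.powerBasis_dim,
      IntermediateField.minpoly_gen] at this
  have hrange : ∀ x : K, (-1) ^ μ.natDegree * x ∈ (algebraMap R K).range ↔ x ∈ (algebraMap R K).range := by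
    intro x
    have h1 : ((-1 : K) ^ μ.natDegree) ∈ (algebraMap R K).range := pow_mem (neg_mem (one_mem _)) _
    refine ⟨fun h => ?_, fun h => mul_mem h1 h⟩
    have := mul_mem h1 h
    rwa [← mul_assoc, ← mul_pow, neg_one_mul, neg_neg, one_pow, one_mul] at this
  rw [hnorm, hrange]
  refine ⟨fun h => ?_, fun h => ?_⟩
  · refine ⟨(minpoly R α).coeff 0, ?_⟩
    rw [show μ = (minpoly R α).map (algebraMap R K) from minpoly.isIntegrallyClosed_eq_field_fractions K L h,
      Polynomial.coeff_map]
  · obtain ⟨a, ha⟩ := h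
    have halg : IsAlgebraic R α := by
      rw [IsFractionRing.isAlgebraic_iff R K L]; exact Algebra.IsAlgebraic.isAlgebraic α
    obtain ⟨p, hp0, hp⟩ := halg
    have hex : ∃ d, ∃ q : Polynomial R, q ≠ 0 ∧ Polynomial.aeval α q = 0 ∧ q.natDegree = d := ⟨_, p, hp0, hp, rfl⟩
    obtain ⟨q, hq0, hq, hqd⟩ := Nat.find_spec hex
    rcases Basic.isIntegral_or ht hq0 hq fun r hr hr' => hqd ▸ Nat.find_min' hex ⟨r, hr, hr', rfl⟩ with h' | ⟨r, hrd, hr, hu, htop⟩
    · exact h'
    exfalso
    have hr0 : r ≠ 0 := fun h0 => by simp [h0] at hu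
    have hmd : μ ∣ r.map (algebraMap R K) := minpoly.dvd K α (by rw [Polynomial.aeval_map_algebraMap]; exact hr)
    have hμd : r.natDegree ≤ μ.natDegree := by
      obtain ⟨b, hb⟩ := IsLocalization.integerNormalization_map_to_map (nonZeroDivisors R) μ
      have hroot : Polynomial.aeval α (IsLocalization.integerNormalization (nonZeroDivisors R) μ) = 0 := by
        rw [← Polynomial.aeval_map_algebraMap K, hb, ← algebraMap_smul K (b : R) μ, map_smul, minpoly.aeval, smul_zero]
      have hb0 : IsLocalization.integerNormalization (nonZeroDivisors R) μ ≠ 0 := fun h0 => minpoly.ne_zero hint (by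
        rw [h0, Polynomial.map_zero, eq_comm, smul_eq_zero] at hb
        exact hb.resolve_left (nonZeroDivisors.coe_ne_zero b))
      rw [hrd, hqd]
      refine (Nat.find_min' hex ⟨_, hb0, hroot, rfl⟩).trans ?_
      rw [← Polynomial.natDegree_map_eq_of_injective (IsFractionRing.injective R K), hb]
      exact Polynomial.natDegree_smul_le _ _
    have heq : r.map (algebraMap R K) = Polynomial.C (algebraMap R K (r.coeff r.natDegree)) * μ := by
      have h1 : (r.map (algebraMap R K)).natDegree = r.natDegree :=
        Polynomial.natDegree_map_eq_of_injective (IsFractionRing.injective R K) r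
      have h2 := Polynomial.eq_leadingCoeff_mul_of_monic_of_dvd_of_natDegree_le (minpoly.monic hint) hmd
        (h1.trans_le hμd)
      rwa [Polynomial.leadingCoeff, h1, Polynomial.coeff_map] at h2
    have h0 := congrArg (fun p => p.coeff 0) heq
    simp only [Polynomial.coeff_map, Polynomial.coeff_C_mul, ← ha, ← map_mul] at h0
    have h1 : r.coeff 0 = r.coeff r.natDegree * a := IsFractionRing.injective R K h0
    rw [hrd] at h1
    exact (IsLocalRing.mem_maximalIdeal _).mp (h1 ▸ (maximalIdeal R).mul_mem_right a htop) hu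

end Groth.Agent.Adic.Rank1.More
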