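import Groth.Agent.Adic.Rank1.Point
import Mathlib.RingTheory.Localization.Integral
import Mathlib.RingTheory.Localization.FractionRing

/-! Statements about rig-points. -/

namespace Groth.Agent.Adic.Rank1.RigPoint

open IsLocalRing TensorProduct

universe u

variable {R : Type u} [CommRing R] [IsDomain R] [ValuationRing R] [Ring.KrullDimLE 1 R]
  {t : R} (ht : t ≠ 0) [IsAdicComplete (Ideal.span {t}) R]

include ht in
theorem valuationRing_integralClosure {B : Type u} [CommRing B] [IsDomain B] [Algebra R B] [FaithfulSMul R B]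
    [Algebra.IsIntegral R B] : ValuationRing (integralClosure B (FractionRing B)) := by
  have : FaithfulSMul R (FractionRing B) := (faithfulSMul_iff_algebraMap_injective _ _).mpr (by
    rw [IsScalarTower.algebraMap_eq R B (FractionRing B)]
    exact (IsFractionRing.injective B _).comp (FaithfulSMul.algebraMap_injective R B))
  have key : ∀ x : FractionRing B, x ∈ integralClosure B (FractionRing B) ∨ x⁻¹ ∈ integralClosure B (FractionRing B) := by
    intro x
    obtain ⟨a, b, hb, rfl⟩ := IsFractionRing.div_surjective (A := B) x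
    have halg : ∀ c : B, IsAlgebraic R (algebraMap B (FractionRing B) c) := fun c =>
      ((Algebra.IsIntegral.isIntegral (R := R) c).map (IsScalarTower.toAlgHom R B (FractionRing B))).isAlgebraic
    have hx : IsAlgebraic R (algebraMap B (FractionRing B) a / algebraMap B (FractionRing B) b) := by
      rw [div_eq_mul_inv]; exact (halg a).mul (halg b).inv
    exact (Basic.isIntegral_or_inv ht hx).imp (fun h => h.tower_top) (fun h => h.tower_top)
  refine { cond' := fun a b => ?_ }
  rcases eq_or_ne (a : FractionRing B) 0 with ha | ha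
  · exact ⟨0, .inr (by rw [mul_zero, (Subtype.ext ha : a = 0)])⟩
  rcases key ((b : FractionRing B) / a) with h | h
  · exact ⟨⟨_, h⟩, .inl (Subtype.ext (mul_div_cancel₀ _ ha))⟩
  · rw [inv_div] at h
    rcases eq_or_ne (b : FractionRing B) 0 with hb | hb
    · exact ⟨0, .inl (by rw [mul_zero]; exact (Subtype.ext hb : b = 0).symm)⟩
    · exact ⟨⟨_, h⟩, .inr (Subtype.ext (mul_div_cancel₀ _ hb))⟩

theorem inv_mem_adjoin {S : Type*} [CommRing S] [Algebra R S] {v w : S} (hv : IsIntegral R v) (hvw : v * w = 1) :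
    v ∈ Algebra.adjoin R {w} := by
  obtain ⟨p, hp, hpv⟩ := hv
  rw [← Polynomial.aeval_def, Polynomial.aeval_eq_sum_range] at hpv
  rcases hd : p.natDegree with _ | d
  · rw [hp.natDegree_eq_zero.mp hd] at hpv
    simp at hpv
    rw [show v = v * 1 from (mul_one v).symm, hpv, mul_zero]
    exact zero_mem _
  · rw [hd, Finset.sum_range_succ, ← hd, hp.coeff_natDegree, one_smul, hd] at hpv
    have hw : ∀ i ≤ d, v ^ i * w ^ d = w ^ (d - i) := fun i hi => by
      conv_lhs => rw [← Nat.sub_add_cancel hi, pow_add, mul_left_comm, ← mul_pow, hvw, one_pow, mul_one]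
    have h : v = -∑ i ∈ Finset.range (d + 1), p.coeff i • w ^ (d - i) := by
      have h1 := congrArg (· * w ^ d) hpv
      simp only [zero_mul, add_mul, Finset.sum_mul] at h1
      rw [pow_succ', mul_assoc v, ← mul_pow, hvw, one_pow, mul_one] at h1
      rw [eq_neg_iff_add_eq_zero, ← h1, add_comm]
      congr 1
      refine Finset.sum_congr rfl fun i hi => ?_
      rw [smul_mul_assoc, hw i (Nat.lt_succ_iff.mp (Finset.mem_range.mp hi))]
    rw [h]
    exact Subalgebra.neg_mem _ (Subalgebra.sum_mem _ fun i _ => Subalgebra.smul_mem _ (Subalgebra.pow_mem _ (Algebra.self_mem_adjoin_singleton R w) _) _)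

include ht in
theorem surjective_of_cLoc {A B : Type u} [CommRing A] [Algebra R A] [CommRing B] [Algebra R B] [IsDomain B]
    (hB : AdicRing.Admissible R (Ideal.span {t}) B) (hdim : ringKrullDim B = 1) (f : A)
    (u : AdicRing.CLoc (Ideal.span {t}) f →ₐ[R] B) (hu : Function.Surjective u) :
    Function.Surjective (u.toRingHom.comp (algebraMap A (AdicRing.CLoc (Ideal.span {t}) f))) := by
  obtain ⟨_, _⟩ := Point.finite_of_admissible ht hB hdim
  let w : A →ₐ[R] B := u.comp (IsScalarTower.toAlgHom R A _)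
  let B₀ := w.range
  have hloc : ∀ z : Localization.Away f, u (algebraMap _ _ z) ∈ B₀ := by
    intro z
    obtain ⟨k, a, hz⟩ := IsLocalization.Away.surj f z
    obtain ⟨v, hv⟩ := (((IsLocalization.Away.algebraMap_isUnit (S := Localization.Away f) f).map
      (algebraMap (Localization.Away f) (AdicRing.CLoc (Ideal.span {t}) f))).map u).exists_left_inv
    rw [← IsScalarTower.algebraMap_apply] at hv
    have hle : Algebra.adjoin R {w f} ≤ B₀ :=
      Algebra.adjoin_le (Set.singleton_subset_iff.mpr (AlgHom.mem_range_self w f))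
    have hvmem : v ∈ B₀ := hle
      (inv_mem_adjoin (Algebra.IsIntegral.isIntegral (R := R) v) hv)
    have h2 : u (algebraMap _ _ z) * w f ^ k = w a := by
      change _ * u (algebraMap A _ f) ^ k = u (algebraMap A _ a)
      rw [IsScalarTower.algebraMap_apply A (Localization.Away f) (AdicRing.CLoc (Ideal.span {t}) f),
        IsScalarTower.algebraMap_apply A (Localization.Away f) (AdicRing.CLoc (Ideal.span {t}) f),
        ← map_pow, ← map_mul, ← map_pow, ← map_mul, hz]
    have h3 : u (algebraMap _ _ z) = w a * v ^ k := by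
      rw [← h2, mul_assoc, ← mul_pow, mul_comm (w f), show v * w f = 1 from hv, one_pow, mul_one]
    rw [h3]
    exact B₀.mul_mem (AlgHom.mem_range_self w a) (B₀.pow_mem hvmem k)
  have htop : (⊤ : Submodule R B) ≤ B₀.toSubmodule := by
    refine Submodule.le_of_le_smul_of_le_jacobson_bot Module.Finite.fg_top (I := Ideal.span {t})
      (((Ideal.span_singleton_le_iff_mem _).mpr (Base.Classes.mem_maximalIdeal (t := t))).trans
        (Hensel.Idem.maximalIdeal_le_jacobson R)) fun b _ => ?_
    obtain ⟨x, rfl⟩ := hu b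
    set J := (Ideal.span {t}).map (algebraMap R (Localization.Away f))
    obtain ⟨z, hz⟩ := Submodule.mkQ_surjective _ (x.val 1)
    have hx : x - algebraMap _ _ z ∈ (J ^ 1 • ⊤ : Submodule (Localization.Away f) (AdicRing.CLoc (Ideal.span {t}) f)) := by
      rw [AdicCompletion.pow_smul_top_eq_ker_eval (Ideal.FG.map (Submodule.fg_span_singleton t) _),
        LinearMap.mem_ker, map_sub, AdicCompletion.eval_apply, AdicCompletion.eval_apply, ← hz, sub_eq_zero]
      rfl
    have hx' : x - algebraMap _ _ z ∈ (Ideal.span {t} • ⊤ : Submodule R (AdicRing.CLoc (Ideal.span {t}) f)) := by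
      rw [pow_one] at hx
      have h := Base.Tame.restrictScalars_map_smul (B' := Localization.Away f) (Ideal.span {t})
        (⊤ : Submodule (Localization.Away f) (AdicRing.CLoc (Ideal.span {t}) f))
      rw [Submodule.restrictScalars_top] at h
      exact h ▸ hx
    rw [← sub_add_cancel x (algebraMap _ _ z), map_add]
    refine add_mem (Submodule.mem_sup_right ?_) (Submodule.mem_sup_left (hloc z))
    have h := Submodule.mem_map_of_mem (f := u.toLinearMap) hx'
    rw [Submodule.map_smul''] at h
    exact smul_mono_right (Ideal.span {t}) (le_top : (⊤ : Submodule R (AdicRing.CLoc (Ideal.span {t}) f)).map u.toLinearMap ≤ ⊤) h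
  intro b
  obtain ⟨a, ha⟩ := htop (Submodule.mem_top (x := b))
  exact ⟨a, ha⟩

include ht in
theorem range_admissible {A A' B' : Type u} [CommRing A] [Algebra R A] [CommRing A'] [Algebra R A']
    (hA : AdicRing.Admissible R (Ideal.span {t}) A) (φ : A →ₐ[R] A') [CommRing B'] [Algebra R B'] [IsDomain B']
    (hB' : AdicRing.Admissible R (Ideal.span {t}) B') (hdim : ringKrullDim B' = 1) (u' : A' →ₐ[R] B') :
    AdicRing.Admissible R (Ideal.span {t}) ((u'.comp φ).range) ∧
      IsLocalRing ((u'.comp φ).range) ∧ ringKrullDim ((u'.comp φ).range) = 1 := by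
  obtain ⟨_, _⟩ := Point.finite_of_admissible ht hB' hdim
  set B₀ := (u'.comp φ).range
  have htf : ∀ x : B₀, t • x = 0 → x = 0 := fun x hx =>
    Subtype.ext (Point.noPowTorsion_iff.mp hB'.2 (x : B') (congrArg Subtype.val hx))
  have hdiv : ∀ x : B₀, x ≠ 0 → ∃ k, x ∣ algebraMap R B₀ t ^ k := by
    intro x hx
    have hxi : IsIntegral R x := (isIntegral_algHom_iff B₀.val Subtype.val_injective).mp
      (Algebra.IsIntegral.isIntegral (R := R) (x : B'))
    obtain ⟨p, hp, hpx, hp0⟩ : ∃ p : Polynomial R, p ≠ 0 ∧ Polynomial.aeval x p = 0 ∧ p.coeff 0 ≠ 0 := by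
      obtain ⟨p, hp0, hpx⟩ := hxi.isAlgebraic.exists_nonzero_coeff_and_aeval_eq_zero (mem_nonZeroDivisors_of_ne_zero hx)
      exact ⟨p, fun h => hp0 (by simp [h]), hpx, hp0⟩
    obtain ⟨k, c, hc⟩ := Base.Saturated.exists_dvd_pow (Basic.not_isUnit (t := t)) hp0
    refine ⟨k, ?_⟩
    rw [← map_pow, hc, map_mul]
    refine Dvd.dvd.mul_right ?_ _
    rw [← Polynomial.X_mul_divX_add p, map_add, map_mul, Polynomial.aeval_X, Polynomial.aeval_C,
      add_eq_zero_iff_eq_neg'] at hpx
    exact hpx ▸ (dvd_mul_right x _).neg_right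
  have hA' : AdicRing.TopFiniteType R (Ideal.span {t}) A :=
    ⟨hA.1.choose, hA.1.choose_spec.choose, hA.1.choose_spec.choose_spec.1⟩
  obtain ⟨h1, -, -, h2, h3⟩ := Point.finite_quotient ht hA' ((u'.comp φ).rangeRestrict)
    (AlgHom.rangeRestrict_surjective _) htf hdiv
  exact ⟨h1, h2, h3⟩

include ht in
theorem primes_correspond {A : Type u} [CommRing A] [Algebra R A]
    (hA : AdicRing.Admissible R (Ideal.span {t}) A) :
    (∀ p : Ideal A, p.IsPrime → algebraMap R A t ∉ p → ringKrullDim (A ⧸ p) = 1 →
        (p.map (Algebra.TensorProduct.includeLeftRingHom : A →+* A ⊗[R] FractionRing R)).IsMaximal ∧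
        (p.map (Algebra.TensorProduct.includeLeftRingHom : A →+* A ⊗[R] FractionRing R)).comap
          (Algebra.TensorProduct.includeLeftRingHom : A →+* A ⊗[R] FractionRing R) = p) ∧
      (∀ m : Ideal (A ⊗[R] FractionRing R), m.IsMaximal →
        algebraMap R A t ∉ m.comap (Algebra.TensorProduct.includeLeftRingHom : A →+* A ⊗[R] FractionRing R) ∧
          ringKrullDim (A ⧸ m.comap (Algebra.TensorProduct.includeLeftRingHom : A →+* A ⊗[R] FractionRing R)) = 1 ∧
          (m.comap (Algebra.TensorProduct.includeLeftRingHom : A →+* A ⊗[R] FractionRing R)).map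
            (Algebra.TensorProduct.includeLeftRingHom : A →+* A ⊗[R] FractionRing R) = m) := by
  have hft : AdicRing.TopFiniteType R (Ideal.span {t}) A :=
    ⟨hA.1.choose, hA.1.choose_spec.choose, hA.1.choose_spec.choose_spec.1⟩
  set L := A ⊗[R] FractionRing R
  set S := Algebra.algebraMapSubmonoid A (nonZeroDivisors R)
  have hloc : IsLocalization S L := IsLocalization.tensor (S := A) (FractionRing R) (nonZeroDivisors R)
  rw [show (Algebra.TensorProduct.includeLeftRingHom : A →+* L) = algebraMap A L from rfl]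
  have hdisj : ∀ p : Ideal A, p.IsPrime → algebraMap R A t ∉ p → Disjoint (S : Set A) (p : Set A) := by
    intro p hp htp
    refine Set.disjoint_left.mpr fun a ha hap => htp ?_
    obtain ⟨r, hr, rfl⟩ := ha
    obtain ⟨j, u, hu⟩ := Base.Saturated.exists_dvd_pow (Basic.not_isUnit (t := t)) (nonZeroDivisors.ne_zero hr)
    refine hp.mem_of_pow_mem j ?_
    rw [← map_pow, hu, map_mul]
    exact p.mul_mem_right _ hap
  have htS : algebraMap R A t ∈ S := ⟨t, mem_nonZeroDivisors_of_ne_zero ht, rfl⟩
  refine ⟨fun p hp htp hdim => ⟨?_, IsLocalization.comap_map_of_isPrime_disjoint S L hp (hdisj p hp htp)⟩,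
    fun m hm => ?_⟩
  · have hpp := IsLocalization.isPrime_of_isPrime_disjoint S L p hp (hdisj p hp htp)
    obtain ⟨Q, hQ, hle⟩ := Ideal.exists_le_maximal _ hpp.ne_top
    suffices h : Q.comap (algebraMap A L) = p by
      rw [← h, IsLocalization.map_comap S L]; exact hQ
    set q := Q.comap (algebraMap A L)
    have hpq : p ≤ q := fun x hx => hle (Ideal.mem_map_of_mem _ hx)
    by_contra hne
    have htq : algebraMap R A t ∉ q := fun h =>
      hQ.ne_top (Ideal.eq_top_of_isUnit_mem Q h (IsLocalization.map_units L ⟨_, htS⟩))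
    have : IsDomain (A ⧸ p) := Ideal.Quotient.isDomain p
    have : Ring.KrullDimLE 1 (A ⧸ p) := Ring.krullDimLE_iff.mpr hdim.le
    have hq' : (q.map (Ideal.Quotient.mk p)).IsPrime :=
      Ideal.map_isPrime_of_surjective Ideal.Quotient.mk_surjective (by rw [Ideal.mk_ker]; exact hpq)
    have hq0 : q.map (Ideal.Quotient.mk p) ≠ ⊥ := fun h => hne (le_antisymm (fun x hx => by
      have := Ideal.mem_map_of_mem (Ideal.Quotient.mk p) hx
      rwa [h, Ideal.mem_bot, Ideal.Quotient.eq_zero_iff_mem] at this) hpq)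
    have := hq'.isMaximal_of_ne_bot hq0
    have hjac : algebraMap R A t ∈ Ideal.jacobson (⊥ : Ideal A) :=
      Point.le_jacobson ht hft (Ideal.mem_map_of_mem _ (Base.Classes.mem_maximalIdeal (t := t)))
    have hq : q.IsMaximal := by
      have := Ideal.comap_isMaximal_of_surjective (Ideal.Quotient.mk p) Ideal.Quotient.mk_surjective
        (K := q.map (Ideal.Quotient.mk p))
      rwa [Ideal.comap_map_of_surjective _ Ideal.Quotient.mk_surjective, ← RingHom.ker_eq_comap_bot, Ideal.mk_ker,
        sup_eq_left.mpr hpq] at this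
    exact htq (Hensel.Idem.mem_of_mem_jacobson hjac q)
  · set p := m.comap (algebraMap A L)
    have htp : algebraMap R A t ∉ p := fun h =>
      hm.ne_top (Ideal.eq_top_of_isUnit_mem m h (IsLocalization.map_units L ⟨_, htS⟩))
    refine ⟨htp, ?_, IsLocalization.map_comap S L m⟩
    have hp : p.IsPrime := Ideal.IsPrime.comap _
    have : IsDomain (A ⧸ p) := Ideal.Quotient.isDomain p
    have htf : ∀ x : A ⧸ p, t • x = 0 → x = 0 := by
      intro x hx
      obtain ⟨x, rfl⟩ := Ideal.Quotient.mk_surjective x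
      rw [Algebra.smul_def, ← Ideal.Quotient.mk_algebraMap, ← map_mul, Ideal.Quotient.eq_zero_iff_mem] at hx
      exact Ideal.Quotient.eq_zero_iff_mem.mpr ((hp.mem_or_mem hx).resolve_left htp)
    have hdiv : ∀ x : A ⧸ p, x ≠ 0 → ∃ k, x ∣ algebraMap R (A ⧸ p) t ^ k := by
      intro x hx
      obtain ⟨x, rfl⟩ := Ideal.Quotient.mk_surjective x
      have hxm : algebraMap A L x ∉ m := fun h => hx (Ideal.Quotient.eq_zero_iff_mem.mpr h)
      obtain ⟨z, hz⟩ := hm.exists_inv hxm
      obtain ⟨i, hi, hzi⟩ := hz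
      obtain ⟨⟨y, ⟨_, r, hr, rfl⟩⟩, hy⟩ := IsLocalization.surj S z
      obtain ⟨k, c, hc⟩ := Base.Saturated.exists_dvd_pow (Basic.not_isUnit (t := t)) (nonZeroDivisors.ne_zero hr)
      refine ⟨k, Ideal.Quotient.mk p (y * algebraMap R A c), ?_⟩
      rw [← Ideal.Quotient.mk_algebraMap, ← map_pow, ← map_mul, Ideal.Quotient.eq, Ideal.mem_comap]
      have : algebraMap A L (algebraMap R A t ^ k - x * (y * algebraMap R A c)) =
          algebraMap A L (algebraMap R A r * algebraMap R A c) * i := by
        rw [← map_pow, hc, map_sub, map_mul (algebraMap R A), map_mul (algebraMap A L) x, map_mul (algebraMap A L) y,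
          ← hy, map_mul (algebraMap A L)]
        linear_combination -(algebraMap A L (algebraMap R A r) * algebraMap A L (algebraMap R A c)) * hzi
      rw [this]
      exact m.mul_mem_left _ hi
    exact (Point.finite_quotient ht hft (Ideal.Quotient.mkₐ R p) Ideal.Quotient.mk_surjective htf hdiv).2.2.2.2

end Groth.Agent.Adic.Rank1.RigPoint
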